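import Mathlib

/-!
# The idempotents of the powers of an element of finite order
-/

set_option autoImplicit false
set_option linter.unusedSectionVars false

namespace CfsgLib.Blocks.Decomp

open Finset

variable {R : Type*} [CommRing R] {A : Type*} [Ring A] [Algebra R A]

/-- The `k`-th idempotent of `u` for the root `z` of order `o`, with `c = 1 / o`. -/
def fid (c z : R) (u : A) (o k : ℕ) : A := c • ∑ i ∈ range o, ((z ^ (o - 1)) ^ k • u) ^ i

theorem map_fid {S : Type*} [CommRing S] {B : Type*} [Ring B] [Algebra S B] (f : A →+* B)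
    (g : R →+* S) (hf : ∀ (r : R) (a : A), f (r • a) = g r • f a) (c z : R) (u : A) (o k : ℕ) :
    f (fid c z u o k) = fid (g c) (g z) (f u) o k := by
  simp [fid, hf]

variable [IsDomain R] {c z : R} {u : A} {o : ℕ}

theorem root_inv (hz : IsPrimitiveRoot z o) (ho : 0 < o) (k : ℕ) :
    z ^ k * (z ^ (o - 1)) ^ k = 1 := by
  rw [← mul_pow, ← pow_succ', Nat.sub_add_cancel ho, hz.pow_eq_one, one_pow]

theorem pow_root (hz : IsPrimitiveRoot z o) (n : ℕ) : (z ^ n) ^ o = 1 := by
  rw [← pow_mul, pow_mul', hz.pow_eq_one, one_pow]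

open Classical in
theorem geom_eq {x : R} (hx : x ^ o = 1) :
    ∑ i ∈ range o, x ^ i = if x = 1 then (o : R) else 0 := by
  split_ifs with h
  · simp [h]
  · have := geom_sum_mul x o
    rw [hx, sub_self] at this
    exact (mul_eq_zero.mp this).resolve_right (sub_ne_zero.mpr h)

theorem w_pow (hz : IsPrimitiveRoot z o) (hu : u ^ o = 1) (k : ℕ) :
    ((z ^ (o - 1)) ^ k • u) ^ o = 1 := by
  rw [smul_pow, hu, ← pow_mul, ← pow_mul, Nat.mul_comm k o, mul_left_comm, pow_mul,
    hz.pow_eq_one, one_pow, one_smul]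

theorem mul_fid (hz : IsPrimitiveRoot z o) (ho : 0 < o) (hu : u ^ o = 1) (k : ℕ) :
    u * fid c z u o k = z ^ k • fid c z u o k := by
  set w := (z ^ (o - 1)) ^ k • u with hw
  have h1 : w * ∑ i ∈ range o, w ^ i = ∑ i ∈ range o, w ^ i := by
    have h := mul_geom_sum w o
    rw [hw, w_pow hz hu, sub_self, sub_mul, one_mul, sub_eq_zero] at h
    exact h
  have h2 : u = z ^ k • w := by rw [hw, smul_smul, root_inv hz ho, one_smul]
  rw [fid, mul_smul_comm, ← hw]
  conv_lhs => rw [h2, smul_mul_assoc, h1]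
  rw [smul_comm]

theorem fid_mul (hz : IsPrimitiveRoot z o) (ho : 0 < o) (hu : u ^ o = 1) (hc : c * (o : R) = 1)
    {k l : ℕ} (hk : k < o) (hl : l < o) :
    fid c z u o k * fid c z u o l = if k = l then fid c z u o k else 0 := by
  set E := fid c z u o l
  have hpow : ∀ i : ℕ, u ^ i * E = (z ^ l) ^ i • E := fun i => by
    induction i with
    | zero => simp
    | succ i ih =>
      rw [pow_succ', mul_assoc, ih, mul_smul_comm, mul_fid hz ho hu, smul_smul, ← pow_succ]
  set x := (z ^ (o - 1)) ^ k * z ^ l with hx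
  have hxo : x ^ o = 1 := by
    rw [hx, mul_pow, ← pow_mul z (o - 1) k, pow_root hz, pow_root hz, one_mul]
  have hx1 : x = 1 ↔ k = l := by
    refine ⟨fun h => ?_, fun h => ?_⟩
    · refine (hz.pow_inj hl hk ?_).symm
      have := congrArg (z ^ k * ·) h
      simp only [hx, ← mul_assoc, root_inv hz ho, one_mul, mul_one] at this
      exact this
    · rw [hx, h, mul_comm, root_inv hz ho]
  have key : fid c z u o k * E = (c * ∑ i ∈ range o, x ^ i) • E := by
    rw [fid, smul_mul_assoc, Finset.sum_mul, mul_smul, Finset.sum_smul]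
    congr 1
    refine Finset.sum_congr rfl fun i _ => ?_
    rw [smul_pow, smul_mul_assoc, hpow, smul_smul, hx, mul_pow]
  rw [key, geom_eq hxo]
  by_cases hkl : k = l
  · rw [if_pos (hx1.mpr hkl), if_pos hkl, hc, one_smul]
    simp only [E, hkl]
  · rw [if_neg fun h => hkl (hx1.mp h), if_neg hkl, mul_zero, zero_smul]

theorem sum_fid (hz : IsPrimitiveRoot z o) (ho : 0 < o) (hc : c * (o : R) = 1) :
    ∑ k ∈ range o, fid c z u o k = (1 : A) := by
  simp only [fid, ← Finset.smul_sum]
  rw [Finset.sum_comm, Finset.sum_eq_single 0]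
  · simp only [pow_zero, Finset.sum_const, Finset.card_range]
    rw [← Nat.cast_smul_eq_nsmul R, smul_smul, hc, one_smul]
  · intro i hi hi0
    simp only [smul_pow, ← Finset.sum_smul]
    rw [Finset.sum_congr rfl (fun k _ => (pow_right_comm (z ^ (o - 1)) k i)),
      geom_eq (by rw [← pow_mul z (o - 1) i, pow_root hz]),
      if_neg, zero_smul]
    intro h
    have h1 : z ^ i = 1 := by
      have := congrArg (z ^ i * ·) h
      simpa [root_inv hz ho i] using this.symm
    exact hi0 (Nat.eq_zero_of_dvd_of_lt ((hz.pow_eq_one_iff_dvd i).mp h1) (Finset.mem_range.mp hi))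
  · intro h
    exact absurd (Finset.mem_range.mpr ho) h

theorem sum_smul_fid (hz : IsPrimitiveRoot z o) (ho : 0 < o) (hu : u ^ o = 1)
    (hc : c * (o : R) = 1) : ∑ k ∈ range o, z ^ k • fid c z u o k = u := by
  rw [Finset.sum_congr rfl fun k _ => (mul_fid hz ho hu k).symm, ← Finset.mul_sum,
    sum_fid hz ho hc, mul_one]

end CfsgLib.Blocks.Decomp
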