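import Cfsg.Agent.Lib.Blocks.Decomp.Prim
import Cfsg.Agent.Lib.Blocks.Decomp.Fourier
import Cfsg.Agent.Lib.Blocks.CyclicDefect.Simples
import Cfsg.Agent.Lib.Blocks.FreeQuotient.LocalIdem
import Cfsg.Agent.Lib.Blocks.StarGeneralized

/-!
# Decomposition numbers and Brauer characters

Chosen lifts of one primitive idempotent for each simple component of `k[G]`; the traces of the
characters on them are the decomposition numbers, and the Brauer characters are read off from the
ranks of the idempotents of the cyclic subgroups.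
-/

set_option autoImplicit false
set_option linter.unusedSectionVars false
set_option linter.style.haveILetI false

namespace CfsgLib.Blocks.Decomp

open Cfsg CfsgLib.GrpRing
open MonoidAlgebra (of)
open scoped ComplexConjugate CfsgLib.Char

variable {p : ℕ} {M : Ideal AlgInt} [M.IsPrime] {G : Type*} [Group G] [Fintype G]

variable (M G) in
/-- The simple components with chosen idempotents. -/
structure Simples where
  r : ℕ
  m : Fin r → ℕ
  m_ne : ∀ b, NeZero (m b)
  π : KG M G →ₐ[ResField M] Π b, Matrix (Fin (m b)) (Fin (m b)) (ResField M)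
  surj : Function.Surjective π
  nil : ∀ a, π a = 0 → IsNilpotent a
  j : Fin r → KG M G
  prim : ∀ b, Corner.IsPrim (j b)
  j_ne : ∀ b, π (j b) b ≠ 0
  e : Fin r → OG M G
  idem : ∀ b, IsIdempotentElem (e b)
  red_e : ∀ b, red (e b) = j b

theorem mem_fix_one {R : Type*} [CommRing R] (a : MonoidAlgebra R G) :
    a ∈ fixAlg R ({1} : Set G) :=
  mem_fixAlg.mpr fun s hs => by
    rw [Set.mem_singleton_iff.mp hs, dlt_one]
    exact Commute.one_left a

variable (M G) in
theorem nonempty_simples : Nonempty (Simples M G) := by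
  obtain ⟨r, m, hm, π, N, hπs, hN⟩ := CyclicDefect.exists_simples M G
  have hnil : ∀ a, π a = 0 → IsNilpotent a := fun a ha => ⟨N + 1, by
    have h : a ^ (N + 1) ∈ (RingHom.ker π) ^ (N + 1) := Ideal.pow_mem_pow (RingHom.mem_ker.mpr ha) _
    rcases Nat.eq_zero_or_pos N with h0 | h0
    · rw [h0] at hN
      rw [Submodule.pow_zero, Ideal.one_eq_top] at hN
      have : a ^ (N + 1) ∈ (⊥ : Ideal (KG M G)) := hN ▸ trivial
      exact this
    · rw [Submodule.pow_succ' _ h0.ne', hN] at h
      simpa using h⟩
  obtain ⟨j, hj⟩ := exists_reps π hπs hm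
  choose e he hidem hred using fun b =>
    exists_lift_idempotent' (hj b).1.idem (mem_fix_one (j b))
  exact ⟨⟨r, m, hm, π, hπs, hnil, j, fun b => (hj b).1, fun b => (hj b).2, e, hidem, hred⟩⟩

variable (S : Simples M G)

/-- The trace of `θ` on the chosen idempotent. -/
noncomputable def Simples.dec (θ : G → ℂ) (b : Fin S.r) : ℂ := chiSum θ (S.e b)

theorem blkTrace_one {θ : G → ℂ} (hθ : IsClassFunction G θ) {a : OG M G} (ha : IsIdempotentElem a) :
    blkTrace θ 1 (red a) = chiSum θ a := by
  rw [blkTrace_red hθ ha (mem_fix_one a), dlt_one, mul_one]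

/-- The trace on an idempotent through the decomposition numbers. -/
theorem chiSum_idem_eq {θ : G → ℂ} (hθ : IsClassFunction G θ) {a : OG M G}
    (ha : IsIdempotentElem a) :
    chiSum θ a = ∑ b, (rk S.π b (red a) : ℂ) * S.dec θ b := by
  rw [← blkTrace_one hθ ha, additive_eq S.π S.surj S.nil (blkTrace θ 1) (blkTrace_zero hθ 1)
    (fun i i' hi hi' h h' => blkTrace_add hθ hi hi' (mem_fix_one i) (mem_fix_one i') h h')
    (fun i i' hi hi' ⟨x, y, hxy, hyx⟩ => blkTrace_congr hθ hi hi' (mem_fix_one i) (mem_fix_one i')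
      (mem_fix_one x) (mem_fix_one y) hxy hyx)
    (j := S.j) (fun b => ⟨S.prim b, S.j_ne b⟩) (ha.map red)]
  refine Finset.sum_congr rfl fun b _ => ?_
  rw [nsmul_eq_mul, ← S.red_e b, blkTrace_one hθ (S.idem b)]
  rfl

theorem rk_j (b c : Fin S.r) : rk S.π b (S.j c) = if b = c then 1 else 0 := by
  obtain ⟨h1, h0⟩ := prim_component S.π S.surj (S.prim c) (S.j_ne c)
  split_ifs with h
  · exact h ▸ h1
  · rw [rk, h0 b h, Matrix.rank_zero]

theorem rk_one (b : Fin S.r) : rk S.π b 1 = S.m b := by
  rw [rk, map_one, Pi.one_apply, Matrix.rank_one, Fintype.card_fin]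

theorem trace_j (b c : Fin S.r) :
    (S.π (S.j c) b).trace = if b = c then 1 else 0 := by
  rw [trace_eq_rank (by rw [← Pi.mul_apply, ← map_mul, (S.prim c).idem.eq]),
    show (S.π (S.j c) b).rank = rk S.π b (S.j c) from rfl, rk_j]
  split_ifs <;> simp

/-- The trace of the component `b` as a function on the group. -/
noncomputable def Simples.tr (b : Fin S.r) (g : G) : ResField M :=
  (S.π (of (ResField M) G g) b).trace

theorem trace_eq_sum (b : Fin S.r) (a : KG M G) :
    (S.π a b).trace = ∑ g, a.coeff g * S.tr b g := by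
  conv_lhs => rw [CyclicDefect.eq_sum_of a]
  simp only [map_sum, map_smul, Finset.sum_apply, Pi.smul_apply, Matrix.trace_sum,
    Matrix.trace_smul, smul_eq_mul]
  rfl

theorem tr_conj (b : Fin S.r) (g h : G) : S.tr b (h * g * h⁻¹) = S.tr b g := by
  show (S.π (of (ResField M) G (h * g * h⁻¹)) b).trace = _
  simp only [map_mul, Pi.mul_apply]
  rw [Matrix.trace_mul_comm, ← mul_assoc, ← Pi.mul_apply, ← map_mul, ← map_mul, inv_mul_cancel,
    map_one, map_one, Pi.one_apply, one_mul]
  rfl

/-! ### Fourier idempotents -/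

variable (M) in
/-- A primitive root of unity of order `o`, as a local integer. -/
noncomputable def zRoot (o : ℕ) : locRing M :=
  if h : 0 < o then ⟨Complex.exp (2 * Real.pi * Complex.I / o),
    memLocalRing_of_isIntegral (IsIntegral.of_pow h
      ((Complex.isPrimitiveRoot_exp o h.ne').pow_eq_one ▸ isIntegral_one))⟩ else 1

theorem zRoot_spec {o : ℕ} (ho : 0 < o) : IsPrimitiveRoot (zRoot M o) o := by
  refine IsPrimitiveRoot.of_map_of_injective (f := (locRing M).subtype) ?_ Subtype.val_injective
  rw [zRoot, dif_pos ho]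
  exact Complex.isPrimitiveRoot_exp o ho.ne'

variable (M) in
open Classical in
/-- The inverse of `o`, when it is a local integer. -/
noncomputable def cInv (o : ℕ) : locRing M :=
  if h : MemLocalRing M ((o : ℂ)⁻¹) then ⟨(o : ℂ)⁻¹, h⟩ else 0

theorem cInv_spec (hM : IsPModular p M) {o : ℕ} (ho : ¬ p ∣ o) :
    cInv M o * (o : locRing M) = 1 := by
  rw [cInv, dif_pos (memLocalRing_natCast_inv hM ho)]
  refine Subtype.ext ?_
  simp only [MulMemClass.coe_mul, SubringClass.coe_natCast, OneMemClass.coe_one]
  exact inv_mul_cancel₀ (Nat.cast_ne_zero.mpr fun h0 => ho (h0 ▸ dvd_zero p))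

variable (M) in
/-- The idempotents of the powers of `y`. -/
noncomputable def eig (y : G) (k : ℕ) : OG M G :=
  fid (cInv M (orderOf y)) (zRoot M (orderOf y)) (dlt (locRing M) y) (orderOf y) k

theorem dlt_pow_orderOf {R : Type*} [CommRing R] (y : G) : dlt R y ^ orderOf y = 1 := by
  rw [MonoidAlgebra.single_pow, one_pow, pow_orderOf_eq_one]
  rfl

section Eig

variable (hM : IsPModular p M) {y : G} (hy : IsPRegular p y)
include hM hy

theorem isIdempotentElem_eig {k : ℕ} (hk : k < orderOf y) : IsIdempotentElem (eig M y k) := by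
  rw [IsIdempotentElem, eig, fid_mul (zRoot_spec (orderOf_pos y)) (orderOf_pos y)
    (dlt_pow_orderOf y) (cInv_spec hM hy) hk hk, if_pos rfl]

theorem sum_eig : ∑ k ∈ Finset.range (orderOf y),
    zRoot M (orderOf y) ^ k • eig M y k = dlt (locRing M) y :=
  sum_smul_fid (zRoot_spec (orderOf_pos y)) (orderOf_pos y) (dlt_pow_orderOf y) (cInv_spec hM hy)

end Eig

/-- The Brauer character of the component `b`, as a function on the regular elements. -/
noncomputable def Simples.brauer (b : Fin S.r) (y : G) : ℂ :=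
  ∑ k ∈ Finset.range (orderOf y),
    ((zRoot M (orderOf y) : locRing M) : ℂ) ^ k * (rk S.π b (red (eig M y k)) : ℂ)

theorem chiSum_dlt (θ : G → ℂ) (y : G) : chiSum θ (dlt (locRing M) y) = θ y := by
  rw [chiSum, Finset.sum_eq_single y]
  · simp
  · intro g _ hg; simp [hg]
  · simp


/-- The values on the regular elements through the decomposition numbers. -/
theorem value_eq (hM : IsPModular p M) {θ : G → ℂ} (hθ : IsClassFunction G θ) {y : G}
    (hy : IsPRegular p y) : θ y = ∑ b, S.brauer b y * S.dec θ b := by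
  conv_lhs => rw [← chiSum_dlt (M := M) θ y, ← sum_eig hM hy, FreeQuot.chiSum_finset_sum]
  simp only [Simples.brauer, Finset.sum_mul]
  rw [Finset.sum_comm]
  refine Finset.sum_congr rfl fun k hk => ?_
  rw [FreeQuot.chiSum_smul, chiSum_idem_eq S hθ (isIdempotentElem_eig hM hy (Finset.mem_range.mp hk)),
    Finset.mul_sum]
  exact Finset.sum_congr rfl fun b _ => by push_cast; ring

theorem red_smul (t : locRing M) (a : OG M G) :
    red (t • a) = res M (t : ℂ) • red a := by
  refine MonoidAlgebra.ext (Finsupp.ext fun g => ?_)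
  simp only [coeff_red, MonoidAlgebra.coeff_smul, Finsupp.smul_apply, smul_eq_mul, map_mul, res_coe]

/-- The residues of the Brauer characters are the traces of the components. -/
theorem res_brauer (hM : IsPModular p M) {y : G} (hy : IsPRegular p y) (b : Fin S.r) :
    res M (S.brauer b y) = S.tr b y := by
  have hloc : ∀ k, MemLocalRing M (((zRoot M (orderOf y) : locRing M) : ℂ) ^ k) := fun k =>
    memLocalRing_pow (zRoot M (orderOf y)).2 k
  rw [Simples.brauer, res_sum _ _ fun k _ =>
    memLocalRing_mul (hloc k) (memLocalRing_natCast _), Simples.tr]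
  rw [show of (ResField M) G y = red (dlt (locRing M) y) from (red_dlt y).symm,
    ← sum_eig hM hy, map_sum, map_sum, Finset.sum_apply, Matrix.trace_sum]
  refine Finset.sum_congr rfl fun k hk => ?_
  have hid := ((isIdempotentElem_eig hM hy (Finset.mem_range.mp hk)).map red).map S.π
  rw [red_smul, map_smul, Pi.smul_apply, Matrix.trace_smul,
    trace_eq_rank (by rw [← Pi.mul_apply, hid.eq]), smul_eq_mul,
    res_mul (hloc k) (memLocalRing_natCast _), SubmonoidClass.coe_pow]
  congr 1
  rw [res_mk (memLocalRing_natCast _)]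
  exact map_natCast (Ideal.Quotient.mk (locIdeal M)) (rk S.π b (red (eig M y k)))

theorem memLocalRing_brauer (b : Fin S.r) (y : G) : MemLocalRing M (S.brauer b y) :=
  memLocalRing_sum _ _ fun k _ =>
    memLocalRing_mul (memLocalRing_pow (zRoot M (orderOf y)).2 k) (memLocalRing_natCast _)

theorem brauer_one (hM : IsPModular p M) (b : Fin S.r) : S.brauer b 1 = (S.m b : ℂ) := by
  have h1 : eig M (1 : G) 0 = 1 := by
    have := sum_eig (M := M) (y := (1 : G)) hM (by
      rw [IsPRegular, orderOf_one]; exact hM.1.not_dvd_one)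
    rw [orderOf_one, Finset.sum_range_one, pow_zero, one_smul, dlt_one] at this
    exact this
  rw [Simples.brauer, orderOf_one, Finset.sum_range_one, pow_zero, one_mul, h1, map_one, rk_one]

theorem conjAlg_eq_mul {R : Type*} [CommRing R] (h : G) (a : MonoidAlgebra R G) :
    dlt R h * a * dlt R h⁻¹ = conjAlg R h a := by
  refine MonoidAlgebra.ext (Finsupp.ext fun g => ?_)
  rw [coeff_mul_dlt, coeff_dlt_mul, coeff_conjAlg, inv_inv, mul_assoc]

theorem brauer_conj (b : Fin S.r) (y h : G) (hM : IsPModular p M) (hy : IsPRegular p y) :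
    S.brauer b (h * y * h⁻¹) = S.brauer b y := by
  have ho : orderOf (h * y * h⁻¹) = orderOf y := by
    rw [show h * y * h⁻¹ = MulAut.conj h y from rfl]
    exact MulEquiv.orderOf_eq (MulAut.conj h) y
  rw [Simples.brauer, Simples.brauer, ho]
  refine Finset.sum_congr rfl fun k hk => ?_
  have hmap : eig M (h * y * h⁻¹) k = conjAlg (locRing M) h (eig M y k) := by
    rw [eig, eig, ho]
    exact ((map_fid (conjAlg (locRing M) h).toRingEquiv.toRingHom (RingHom.id _)
      (fun r a => map_smul (conjAlg (locRing M) h) r a) _ _ _ _ _).trans (by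
        simp [conjAlg_dlt])).symm
  rw [hmap, red_conjAlg]
  congr 2
  have hid := (isIdempotentElem_eig hM hy (Finset.mem_range.mp hk)).map red
  refine rk_equiv S.π (hid.map (conjAlg (ResField M) h)) hid
    ⟨dlt (ResField M) h * red (eig M y k), dlt (ResField M) h⁻¹, ?_, ?_⟩
  · rw [conjAlg_eq_mul]
  · rw [← mul_assoc, dlt_mul, inv_mul_cancel, dlt_one, one_mul]

end CfsgLib.Blocks.Decomp
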