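import Cfsg.Agent.Lib.Blocks.Decomp.Surjective
import Cfsg.Agent.Lib.Blocks.HeightZero
import Cfsg.Agent.Lib.Blocks.Rank

/-!
# The decomposition numbers of a block; the sum of the squared degrees of a block
-/

set_option autoImplicit false
set_option linter.unusedSectionVars false
set_option linter.style.haveILetI false

namespace CfsgLib.Blocks.Decomp

open Cfsg CfsgLib.GrpRing
open scoped ComplexConjugate CfsgLib.Char

variable {p : ℕ} {M : Ideal AlgInt} [M.IsPrime] {G : Type*} [Group G] [Fintype G]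
  {B : Set (IrrCharacter G)}

/-- The block idempotent with local coefficients. -/
noncomputable def blkOG (hB : IsPBlock M B) : OG M G :=
  ofFun fun g => ⟨blockCoeff B g, IsPBlock.memLocalRing_blockCoeff hB g⟩

theorem coe_coeff_blkOG (hB : IsPBlock M B) (g : G) :
    (((blkOG hB).coeff g : locRing M) : ℂ) = blockCoeff B g := by
  rw [blkOG, coeff_ofFun]

theorem red_blkOG (hB : IsPBlock M B) : red (blkOG hB) = CyclicDefect.eB M B := by
  refine MonoidAlgebra.ext (Finsupp.ext fun g => ?_)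
  rw [coeff_red, CyclicDefect.coeff_eB, res_mk (IsPBlock.memLocalRing_blockCoeff hB g), blkOG,
    coeff_ofFun]

theorem isIdempotentElem_blkOG (hB : IsPBlock M B) : IsIdempotentElem (blkOG hB) :=
  MonoidAlgebra.ext (Finsupp.ext fun g => Subtype.ext (by
    rw [coeff_mul_fintype, AddSubmonoidClass.coe_finsetSum, coe_coeff_blkOG]
    conv_rhs => rw [← conv_blockCoeff_self B]
    rw [conv]
    exact Finset.sum_congr rfl fun y _ => by
      rw [MulMemClass.coe_mul, coe_coeff_blkOG, coe_coeff_blkOG]))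

theorem blkOG_comm (hB : IsPBlock M B) (a : OG M G) : blkOG hB * a = a * blkOG hB :=
  commute_of_support (S := (Set.univ : Set G)) (fun g hg => absurd (Set.mem_univ g) hg)
    (mem_fixAlg_iff.mpr fun s _ g => Subtype.ext (by
      rw [coe_coeff_blkOG, coe_coeff_blkOG, isClassFunction_blockCoeff B g s]))

open Classical in
theorem chiSum_mul_blkOG (hB : IsPBlock M B) (χ : IrrCharacter G) (a : OG M G) :
    chiSum (χ : G → ℂ) (a * blkOG hB) = if χ ∈ B then chiSum (χ : G → ℂ) a else 0 := by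
  classical
  have hpart : ∀ x, blockPart B (χ : G → ℂ) x = if χ ∈ B then (χ : G → ℂ) x else 0 := fun x => by
    rw [blockPart_eq_filter, Finset.sum_congr rfl fun ψ _ => by rw [Char.classInner_coe]]
    split_ifs with h
    · rw [Finset.sum_eq_single χ (fun ψ _ hne => by simp [Ne.symm hne])
        (fun hn => absurd (Finset.mem_filter.mpr ⟨Finset.mem_univ χ, h⟩) hn)]
      simp
    · exact Finset.sum_eq_zero fun ψ hψ => by
        have : χ ≠ ψ := fun e => h (e ▸ (Finset.mem_filter.mp hψ).2)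
        simp [this]
  rw [← blkOG_comm hB a, chiSum_mul, Finset.sum_comm]
  have hrow : ∀ k, ∑ h, ((blkOG hB).coeff h : ℂ) * (a.coeff k : ℂ) * (χ : G → ℂ) (h * k) =
      (a.coeff k : ℂ) * blockPart B (χ : G → ℂ) k := fun k => by
    rw [blockPart_eq_sum B (irr_classFunction χ), Finset.mul_sum]
    exact Finset.sum_congr rfl fun h _ => by rw [coe_coeff_blkOG]; ring
  rw [Finset.sum_congr rfl fun k _ => hrow k]
  simp only [hpart]
  split_ifs <;> simp [chiSum]

variable (S : Simples M G)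

/-- The component lies in the block. -/
def Simples.InB (B : Set (IrrCharacter G)) (b : Fin S.r) : Prop := ∃ χ ∈ B, 0 < S.decN χ b

theorem decN_eq_zero (hB : IsPBlock M B) {b : Fin S.r} (hb : S.InB B b) {χ : IrrCharacter G}
    (hχ : χ ∉ B) : S.decN χ b = 0 := by
  classical
  obtain ⟨η, hη, hpos⟩ := hb
  have hid : IsIdempotentElem (S.e b * blkOG hB) := by
    rw [IsIdempotentElem, mul_assoc, ← mul_assoc (blkOG hB), blkOG_comm hB (S.e b), ← mul_assoc,
      ← mul_assoc, (S.idem b).eq, mul_assoc, (isIdempotentElem_blkOG hB).eq]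
  have hred : red (S.e b * blkOG hB) = S.j b * CyclicDefect.eB M B := by
    rw [map_mul, S.red_e, red_blkOG]
  rcases (S.prim b).eq_of_le _ (hred ▸ hid.map red)
    (by rw [← mul_assoc, (S.prim b).idem.eq])
    (by rw [mul_assoc, CyclicDefect.eB_comm, ← mul_assoc, (S.prim b).idem.eq]) with h | h
  · exfalso
    have h1 := chiSum_mul_blkOG hB η (S.e b)
    rw [eq_zero_of_red_eq_zero hid (hred.trans h), if_pos hη] at h1
    have h2 := dec_eq S η b
    rw [Simples.dec, ← h1] at h2
    rw [show chiSum (η : G → ℂ) (0 : OG M G) = 0 by simp [chiSum]] at h2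
    exact hpos.ne' (Nat.cast_eq_zero.mp h2.symm)
  · have h1 : chiSum (χ : G → ℂ) (S.e b * blkOG hB) = chiSum (χ : G → ℂ) (S.e b) := by
      rw [← blkTrace_one (irr_classFunction χ) hid, hred, h, ← S.red_e b,
        blkTrace_one (irr_classFunction χ) (S.idem b)]
    rw [chiSum_mul_blkOG, if_neg hχ] at h1
    have h2 := dec_eq S χ b
    rw [Simples.dec, ← h1] at h2
    exact Nat.cast_eq_zero.mp h2.symm

open Classical in
/-- The degree of the projective character of a component of a block. -/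
noncomputable def Simples.proj (B : Set (IrrCharacter G)) (b : Fin S.r) : ℕ :=
  ∑ χ : IrrCharacter G with χ ∈ B, charDegree (χ : G → ℂ) * S.decN χ b

section InBlock

variable (hM : IsPModular p M) (hB : IsPBlock M B)
include hM hB

open Classical in
theorem degree_eq_inB {χ : IrrCharacter G} (hχ : χ ∈ B) :
    charDegree (χ : G → ℂ) = ∑ b : Fin S.r with S.InB B b, S.m b * S.decN χ b := by
  rw [degree_eq S hM χ, Finset.sum_filter]
  refine Finset.sum_congr rfl fun b _ => ?_
  split_ifs with h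
  · rfl
  · rw [Nat.eq_zero_of_not_pos fun hp => h ⟨χ, hχ, hp⟩, mul_zero]

open Classical in
theorem proj_eq_sum {b : Fin S.r} (hb : S.InB B b) :
    S.proj B b = ∑ χ : IrrCharacter G, charDegree (χ : G → ℂ) * S.decN χ b := by
  rw [Simples.proj, Finset.sum_filter]
  refine Finset.sum_congr rfl fun χ _ => ?_
  split_ifs with h
  · rfl
  · rw [decN_eq_zero S hB hb h, mul_zero]

theorem pow_dvd_proj {b : Fin S.r} (hb : S.InB B b) :
    p ^ (Nat.card G).factorization p ∣ S.proj B b :=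
  proj_eq_sum S hM hB hb ▸ pow_dvd_projective S hM b

theorem proj_pos {b : Fin S.r} (hb : S.InB B b) : 0 < S.proj B b := by
  classical
  obtain ⟨χ, hχ, hpos⟩ := hb
  refine lt_of_lt_of_le (Nat.mul_pos (irr_degree_eq χ).2 hpos)
    (Finset.single_le_sum (f := fun χ : IrrCharacter G => charDegree (χ : G → ℂ) * S.decN χ b)
      (fun _ _ => Nat.zero_le _) (Finset.mem_filter.mpr ⟨Finset.mem_univ χ, hχ⟩))

open Classical in
theorem exists_block_coeffs {b : Fin S.r} (hb : S.InB B b) : ∃ z : IrrCharacter G → ℤ,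
    ∀ c, ∑ χ : IrrCharacter G with χ ∈ B, z χ * (S.decN χ c : ℤ) = if b = c then 1 else 0 := by
  obtain ⟨z, hz⟩ := exists_coeffs S hM b
  refine ⟨z, fun c => ?_⟩
  by_cases hc : S.InB B c
  · rw [← hz c, Finset.sum_filter]
    refine Finset.sum_congr rfl fun χ _ => ?_
    split_ifs with h
    · rfl
    · rw [decN_eq_zero S hB hc h, Nat.cast_zero, mul_zero]
  · rw [if_neg fun e : b = c => hc (e ▸ hb)]
    refine Finset.sum_eq_zero fun χ hχ => ?_
    rw [Nat.eq_zero_of_not_pos fun hp => hc ⟨χ, (Finset.mem_filter.mp hχ).2, hp⟩,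
      Nat.cast_zero, mul_zero]

theorem dvd_m {b : Fin S.r} (hb : S.InB B b) {g : ℕ}
    (hg : ∀ χ ∈ B, g ∣ charDegree (χ : G → ℂ)) : g ∣ S.m b := by
  classical
  obtain ⟨z, hz⟩ := exists_block_coeffs S hM hB hb
  have : (S.m b : ℤ) = ∑ χ : IrrCharacter G with χ ∈ B, z χ * (charDegree (χ : G → ℂ) : ℤ) := by
    rw [Finset.sum_congr rfl (g := fun χ => ∑ c, (S.m c : ℤ) * (z χ * (S.decN χ c : ℤ)))
      fun χ _ => by
        rw [degree_eq S hM χ, Nat.cast_sum, Finset.mul_sum]
        exact Finset.sum_congr rfl fun c _ => by push_cast; ring,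
      Finset.sum_comm]
    simp only [← Finset.mul_sum, hz, mul_ite, mul_one, mul_zero, Finset.sum_ite_eq, Finset.mem_univ,
      if_true]
  refine Int.natCast_dvd_natCast.mp (this ▸ Finset.dvd_sum fun χ hχ => ?_)
  exact dvd_mul_of_dvd_right (Int.natCast_dvd_natCast.mpr (hg χ (Finset.mem_filter.mp hχ).2)) _

theorem blockRank_le_card_inB : blockRank p B ≤ Nat.card {b : Fin S.r // S.InB B b} := by
  classical
  let φ : {b : Fin S.r // S.InB B b} → G → ℂ := fun b => regPart p (S.brauer b.1)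
  have hsub : Submodule.span ℂ ((fun χ : IrrCharacter G => pRegularPart p (χ : G → ℂ)) '' B) ≤
      Submodule.span ℂ (Set.range φ) := by
    rw [Submodule.span_le]
    rintro _ ⟨χ, hχ, rfl⟩
    have : pRegularPart p (χ : G → ℂ) = ∑ b, (S.decN χ b.1 : ℂ) • φ b := by
      funext g
      simp only [φ, pRegularPart_eq_regPart, Finset.sum_apply, Pi.smul_apply, smul_eq_mul]
      by_cases hg : IsPRegular p g
      · simp only [regPart_of_regular hg]
        rw [value_eq S hM (irr_classFunction χ) hg,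
          ← Finset.sum_subtype (Finset.univ.filter fun b => S.InB B b) (fun b => by simp)
            fun b => (S.decN χ b : ℂ) * S.brauer b g, Finset.sum_filter]
        refine Finset.sum_congr rfl fun b _ => ?_
        rw [dec_eq]
        split_ifs with h
        · ring
        · rw [Nat.eq_zero_of_not_pos fun hp => h ⟨χ, hχ, hp⟩, Nat.cast_zero, mul_zero]
      · simp [regPart_of_singular hg]
    show pRegularPart p (χ : G → ℂ) ∈ _
    rw [this]
    exact Submodule.sum_mem _ fun b _ => Submodule.smul_mem _ _ (Submodule.subset_span ⟨b, rfl⟩)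
  rw [blockRank, Nat.card_eq_fintype_card]
  exact (Submodule.finrank_mono hsub).trans (finrank_range_le_card _)

open Classical in
theorem sum_sq_eq : ∑ χ : IrrCharacter G with χ ∈ B, charDegree (χ : G → ℂ) ^ 2 =
    ∑ b : Fin S.r with S.InB B b, S.m b * S.proj B b := by
  simp only [Simples.proj, Finset.mul_sum]
  rw [Finset.sum_comm]
  refine Finset.sum_congr rfl fun χ hχ => ?_
  rw [sq]
  nth_rewrite 2 [degree_eq_inB S hM hB (Finset.mem_filter.mp hχ).2]
  rw [Finset.mul_sum]
  exact Finset.sum_congr rfl fun b _ => by ring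

include S in
open Classical in
/-- The sum of the squared degrees of a block has `p`-part exactly `p ^ (2a - d)`. -/
theorem sum_sq_pPart : ∃ T : ℕ, ¬ p ∣ T ∧
    ∑ χ : IrrCharacter G with χ ∈ B, charDegree (χ : G → ℂ) ^ 2 =
      p ^ (2 * (Nat.card G).factorization p - blockDefect p B) * T := by
  set a := (Nat.card G).factorization p with ha
  set d := blockDefect p B with hd
  obtain ⟨hda, -, hall, -⟩ := blockDefect_le_and_degree hM hB
  obtain ⟨χ₀, hχ₀, h0⟩ := exists_blockHeight_eq_zero hM hB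
  obtain ⟨m', hm'⟩ := Nat.ordProj_dvd (Nat.card G) p
  have hm'p : ¬ p ∣ m' := fun h =>
    Nat.pow_succ_factorization_not_dvd (n := Nat.card G) Nat.card_pos.ne' hM.1
      (by rw [pow_succ]; exact (mul_dvd_mul_left _ h).trans (dvd_of_eq hm'.symm))
  have hxe : ∀ χ ∈ B, ∃ x : ℕ, charDegree (χ : G → ℂ) = p ^ (a - d) * x := fun χ hχ =>
    (hM.1.pow_dvd_iff_le_factorization (irr_degree_eq χ).2.ne').mpr (hall χ hχ)
  choose! x hx using hxe
  have hx0 : ¬ p ∣ x χ₀ := fun h => by
    have h1 := (blockHeight_eq_zero_iff hM hB hχ₀).mp h0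
    have h2 : p ^ (a - d + 1) ∣ charDegree (χ₀ : G → ℂ) := by
      rw [hx χ₀ hχ₀, pow_succ]; exact mul_dvd_mul_left _ h
    have h3 := (hM.1.pow_dvd_iff_le_factorization (irr_degree_eq χ₀).2.ne').mp h2
    omega
  have hw : ∀ b, S.InB B b → ∃ w : ℕ, S.proj B b = p ^ a * w := fun b hb => pow_dvd_proj S hM hB hb
  choose! w hw using hw
  have hz : ∀ b, S.InB B b → ∃ z : IrrCharacter G → ℤ, ∀ c,
      ∑ χ : IrrCharacter G with χ ∈ B, z χ * (S.decN χ c : ℤ) = if b = c then 1 else 0 :=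
    fun b hb => exists_block_coeffs S hM hB hb
  choose! z hz using hz
  set y : IrrCharacter G → ℤ := fun ψ => ∑ b : Fin S.r with S.InB B b, (w b : ℤ) * z b ψ with hy
  have hp0 : ((p : ℤ) ^ (a - d)) ≠ 0 := pow_ne_zero _ (Int.natCast_ne_zero.mpr hM.1.ne_zero)
  have horth : ∀ c, S.InB B c → ∑ ψ : IrrCharacter G with ψ ∈ B,
      ((p : ℤ) ^ d * y ψ - (x ψ : ℤ)) * (S.decN ψ c : ℤ) = 0 := by
    intro c hc
    have hyc : ∑ ψ : IrrCharacter G with ψ ∈ B, y ψ * (S.decN ψ c : ℤ) = w c := by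
      simp only [hy, Finset.sum_mul, mul_assoc]
      rw [Finset.sum_comm]
      simp only [← Finset.mul_sum]
      rw [Finset.sum_congr rfl (g := fun b => if b = c then (w b : ℤ) else 0) fun b hb => by
        rw [hz b (Finset.mem_filter.mp hb).2 c, mul_ite, mul_one, mul_zero], Finset.sum_ite_eq',
        if_pos (Finset.mem_filter.mpr ⟨Finset.mem_univ c, hc⟩)]
    refine mul_left_cancel₀ hp0 ?_
    simp only [sub_mul, mul_assoc, Finset.sum_sub_distrib, ← Finset.mul_sum, hyc, mul_sub, mul_zero]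
    rw [sub_eq_zero, ← mul_assoc, ← pow_add, Nat.sub_add_cancel hda]
    have h1 := congrArg (fun n : ℕ => (n : ℤ)) (hw c hc)
    simp only [Simples.proj, Nat.cast_sum, Nat.cast_mul, Nat.cast_pow] at h1
    rw [← h1, Finset.mul_sum]
    refine Finset.sum_congr rfl fun ψ hψ => ?_
    rw [hx ψ (Finset.mem_filter.mp hψ).2]
    push_cast
    ring
  have hself : ∑ ψ : IrrCharacter G with ψ ∈ B, ((p : ℤ) ^ d * y ψ - (x ψ : ℤ)) * (x ψ : ℤ) = 0 := by
    refine mul_left_cancel₀ hp0 ?_
    rw [Finset.mul_sum, mul_zero]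
    rw [Finset.sum_congr rfl (g := fun ψ => ∑ c : Fin S.r with S.InB B c,
      (S.m c : ℤ) * (((p : ℤ) ^ d * y ψ - (x ψ : ℤ)) * (S.decN ψ c : ℤ))) fun ψ hψ => by
        have h1 := congrArg (fun n : ℕ => (n : ℤ))
          (degree_eq_inB S hM hB (Finset.mem_filter.mp hψ).2)
        rw [hx ψ (Finset.mem_filter.mp hψ).2] at h1
        push_cast at h1
        rw [show (p : ℤ) ^ (a - d) * (((p : ℤ) ^ d * y ψ - (x ψ : ℤ)) * (x ψ : ℤ)) =
          ((p : ℤ) ^ d * y ψ - (x ψ : ℤ)) * ((p : ℤ) ^ (a - d) * (x ψ : ℤ)) by ring, h1,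
          Finset.mul_sum]
        exact Finset.sum_congr rfl fun c _ => by ring,
      Finset.sum_comm]
    exact Finset.sum_eq_zero fun c hc => by
      rw [← Finset.mul_sum, horth c (Finset.mem_filter.mp hc).2, mul_zero]
  set Ti : ℤ := ∑ ψ : IrrCharacter G with ψ ∈ B, y ψ * (x ψ : ℤ) with hTi
  set X : ℕ := ∑ ψ : IrrCharacter G with ψ ∈ B, x ψ ^ 2 with hX
  have hXT : (X : ℤ) = (p : ℤ) ^ d * Ti := by
    rw [eq_comm, ← sub_eq_zero, ← hself, hTi, hX, Finset.mul_sum, Nat.cast_sum,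
      ← Finset.sum_sub_distrib]
    exact Finset.sum_congr rfl fun ψ _ => by push_cast; ring
  obtain ⟨T, hT⟩ : ∃ T : ℕ, Ti = (T : ℤ) := by
    refine ⟨Ti.toNat, (Int.toNat_of_nonneg
      (nonneg_of_mul_nonneg_right (a := (p : ℤ) ^ d) ?_ ?_)).symm⟩
    · exact hXT ▸ Int.natCast_nonneg X
    · exact pow_pos (Int.natCast_pos.mpr hM.1.pos) d
  refine ⟨T, ?_, ?_⟩
  · intro hpT
    -- the scalar products with a height zero character
    set A : IrrCharacter G → ℂ := fun ψ => classInner (regPart p (ψ : G → ℂ)) (χ₀ : G → ℂ) with hA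
    have hA0 : ∑ ψ : IrrCharacter G with ψ ∈ B,
        ((((p : ℤ) ^ d * y ψ - (x ψ : ℤ)) : ℤ) : ℂ) * A ψ = 0 := by
      have hreg : ∀ g : G, IsPRegular p g → ∑ ψ : IrrCharacter G with ψ ∈ B,
          ((((p : ℤ) ^ d * y ψ - (x ψ : ℤ)) : ℤ) : ℂ) * (ψ : G → ℂ) g = 0 := fun g hg => by
        simp only [value_eq S hM (irr_classFunction _) hg, Finset.mul_sum]
        rw [Finset.sum_comm]
        refine Finset.sum_eq_zero fun b _ => ?_
        simp only [dec_eq]
        by_cases hb : S.InB B b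
        · rw [Finset.sum_congr rfl (g := fun ψ : IrrCharacter G => S.brauer b g *
            (((((p : ℤ) ^ d * y ψ - (x ψ : ℤ)) * (S.decN ψ b : ℤ)) : ℤ) : ℂ))
            fun ψ _ => by push_cast; ring, ← Finset.mul_sum, ← Int.cast_sum, horth b hb,
            Int.cast_zero, mul_zero]
        · exact Finset.sum_eq_zero fun ψ hψ => by
            rw [Nat.eq_zero_of_not_pos fun hp => hb ⟨ψ, (Finset.mem_filter.mp hψ).2, hp⟩]
            simp
      simp only [hA, classInner, Finset.mul_sum]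
      rw [Finset.sum_comm]
      refine Finset.sum_eq_zero fun g _ => ?_
      by_cases hg : IsPRegular p g
      · simp only [regPart_of_regular hg]
        rw [Finset.sum_congr rfl (g := fun ψ : IrrCharacter G =>
          ((Nat.card G : ℂ)⁻¹ * conj ((χ₀ : G → ℂ) g)) *
            (((((p : ℤ) ^ d * y ψ - (x ψ : ℤ)) : ℤ) : ℂ) * (ψ : G → ℂ) g)) fun ψ _ => by ring,
          ← Finset.mul_sum, hreg g hg, mul_zero]
      · simp [regPart_of_singular hg]
    have hdeg : ∑ ψ : IrrCharacter G with ψ ∈ B, (ψ : G → ℂ) 1 * A ψ = (χ₀ : G → ℂ) 1 := by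
      have h1 := congrFun (regPart_eq_sum hM (IsPBlock.isBlockUnion hB) hχ₀) 1
      rw [regPart_of_regular (by rw [IsPRegular, orderOf_one]; exact hM.1.not_dvd_one)] at h1
      simp only [Finset.sum_apply, Pi.smul_apply, smul_eq_mul] at h1
      rw [h1]
      exact Finset.sum_congr rfl fun ψ _ => by rw [hA, classInner_regPart_comm]; ring
    set om : IrrCharacter G → ℂ := fun ψ => omega (ψ : G → ℂ) (dualReg p (χ₀ : G → ℂ)) with hom
    have hp' : (p : ℂ) ≠ 0 := Nat.cast_ne_zero.mpr hM.1.ne_zero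
    have hkey : ∑ ψ : IrrCharacter G with ψ ∈ B, (y ψ : ℂ) * (x ψ : ℂ) * om ψ =
        (m' : ℂ) * (x χ₀ : ℂ) := by
      have hom' : ∀ ψ ∈ B, (x ψ : ℂ) * om ψ = (p : ℂ) ^ d * (m' : ℂ) * A ψ := fun ψ hψ => by
        have hne : ((p : ℂ) ^ (a - d) * (x ψ : ℂ)) ≠ 0 := by
          rw [← Nat.cast_pow, ← Nat.cast_mul, ← hx ψ hψ]
          exact Nat.cast_ne_zero.mpr (irr_degree_eq ψ).2.ne'
        rw [hom, hA]
        have hcard : (Nat.card G : ℂ) = (p : ℂ) ^ a * (m' : ℂ) :=
          (congrArg (Nat.cast : ℕ → ℂ) hm').trans (by push_cast; rfl)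
        dsimp only
        rw [omega_dualReg, hcard, (irr_degree_eq ψ).1, hx ψ hψ, Nat.cast_mul, Nat.cast_pow]
        rw [mul_div_assoc', div_eq_iff hne]
        have : (p : ℂ) ^ a = (p : ℂ) ^ (a - d) * (p : ℂ) ^ d := by
          rw [← pow_add, Nat.sub_add_cancel hda]
        rw [this]
        ring
      have h3 : ∑ ψ : IrrCharacter G with ψ ∈ B, (x ψ : ℂ) * A ψ = (x χ₀ : ℂ) := by
        refine mul_left_cancel₀ (pow_ne_zero (a - d) hp') ?_
        rw [Finset.mul_sum, ← Nat.cast_pow, ← Nat.cast_mul, ← hx χ₀ hχ₀, ← (irr_degree_eq χ₀).1,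
          ← hdeg]
        exact Finset.sum_congr rfl fun ψ hψ => by
          rw [(irr_degree_eq ψ).1, hx ψ (Finset.mem_filter.mp hψ).2]; push_cast; ring
      rw [Finset.sum_congr rfl (g := fun ψ : IrrCharacter G => (m' : ℂ) *
          (((((p : ℤ) ^ d * y ψ - (x ψ : ℤ)) : ℤ) : ℂ) * A ψ + (x ψ : ℂ) * A ψ)) fun ψ hψ => by
        rw [mul_assoc, hom' ψ (Finset.mem_filter.mp hψ).2]; push_cast; ring,
        ← Finset.mul_sum, Finset.sum_add_distrib, hA0, h3, zero_add]
    have hunit : ¬ MemLocalIdeal M ((m' : ℂ) * (x χ₀ : ℂ)) := by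
      rw [← Nat.cast_mul, memLocalIdeal_natCast_iff hM]
      exact fun h => (hM.1.dvd_mul.mp h).elim hm'p hx0
    refine hunit ?_
    rw [← hkey]
    have hloc : MemLocalRing M (om χ₀) :=
      memLocalRing_omega χ₀ (isClassFunction_dualReg (irr_classFunction χ₀))
        (memLocalRing_dualReg χ₀)
    rw [Finset.sum_congr rfl (g := fun ψ : IrrCharacter G =>
      (y ψ : ℂ) * (x ψ : ℂ) * (om ψ - om χ₀) + (y ψ : ℂ) * (x ψ : ℂ) * om χ₀) fun ψ _ => by ring,
      Finset.sum_add_distrib, ← Finset.sum_mul]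
    refine memLocalIdeal_add (memLocalIdeal_sum _ _ fun ψ hψ =>
      memLocalIdeal_mul_left (memLocalRing_mul (memLocalRing_intCast _) (memLocalRing_natCast _))
        (sub_mem_localIdeal_of_sameBlock (IsPBlock.sameBlock hB (Finset.mem_filter.mp hψ).2 hχ₀)
          (isClassFunction_dualReg (irr_classFunction χ₀)) (memLocalRing_dualReg χ₀))) ?_
    refine memLocalIdeal_mul_right ?_ hloc
    have : ∑ ψ : IrrCharacter G with ψ ∈ B, (y ψ : ℂ) * (x ψ : ℂ) = ((T : ℕ) : ℂ) := by
      rw [← Int.cast_natCast (R := ℂ) T, ← hT, hTi]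
      push_cast
      rfl
    rw [this, memLocalIdeal_natCast_iff hM]
    exact hpT
  · have hXT' : X = p ^ d * T := by
      exact_mod_cast hT ▸ hXT
    rw [Finset.sum_congr rfl (g := fun ψ => p ^ (a - d) * p ^ (a - d) * x ψ ^ 2) fun ψ hψ => by
      rw [hx ψ (Finset.mem_filter.mp hψ).2]; ring, ← Finset.mul_sum, ← hX, hXT', ← mul_assoc,
      ← pow_add, ← pow_add]
    congr 2
    omega

open Classical in
/-- **The squared degree sum of a block.** -/
theorem sum_sq_factor {g : ℕ} (hg : ∀ χ ∈ B, g ∣ charDegree (χ : G → ℂ))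
    {u : ℕ} (hgu : g = p ^ ((Nat.card G).factorization p - blockDefect p B) * u) (hu : ¬ p ∣ u) :
    ∃ v : ℕ, ¬ p ∣ v ∧ Nat.card {b : Fin S.r // S.InB B b} ≤ v ∧
      ∑ χ : IrrCharacter G with χ ∈ B, charDegree (χ : G → ℂ) ^ 2 =
        p ^ (2 * (Nat.card G).factorization p - blockDefect p B) * u ^ 2 * v := by
  set a := (Nat.card G).factorization p with ha
  set d := blockDefect p B with hd
  obtain ⟨hda, -, -, -⟩ := blockDefect_le_and_degree hM hB
  have hterm : ∀ b, S.InB B b → p ^ (2 * a - d) * u ^ 2 ∣ S.m b * S.proj B b := fun b hb => by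
    have h1 : p ^ a * u ∣ S.proj B b := by
      refine Nat.Coprime.mul_dvd_of_dvd_of_dvd
        (Nat.Coprime.pow_left _ (hM.1.coprime_iff_not_dvd.mpr hu)) (pow_dvd_proj S hM hB hb) ?_
      exact Finset.dvd_sum fun χ hχ => dvd_mul_of_dvd_left
        ((dvd_mul_left u _).trans (hgu ▸ hg χ (Finset.mem_filter.mp hχ).2)) _
    have h2 := mul_dvd_mul (dvd_m S hM hB hb hg) h1
    rw [hgu] at h2
    refine (dvd_of_eq ?_).trans h2
    rw [show 2 * a - d = (a - d) + a by omega, pow_add]
    ring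
  choose! v hv using hterm
  refine ⟨∑ b : Fin S.r with S.InB B b, v b, fun hpv => ?_, ?_, ?_⟩
  · obtain ⟨T, hT, hsum⟩ := sum_sq_pPart S hM hB
    refine hT ?_
    have h : p ^ (2 * a - d) * T = p ^ (2 * a - d) * (u ^ 2 * ∑ b : Fin S.r with S.InB B b, v b) := by
      rw [← hsum, sum_sq_eq S hM hB, ← mul_assoc, Finset.mul_sum]
      exact Finset.sum_congr rfl fun b hb => hv b (Finset.mem_filter.mp hb).2
    rw [Nat.eq_of_mul_eq_mul_left (pow_pos hM.1.pos _) h]
    exact dvd_mul_of_dvd_right hpv _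
  · rw [Nat.card_eq_fintype_card, Fintype.card_subtype, Finset.card_eq_sum_ones]
    refine Finset.sum_le_sum fun b hb => Nat.one_le_iff_ne_zero.mpr fun h => ?_
    have h1 := hv b (Finset.mem_filter.mp hb).2
    rw [h, mul_zero] at h1
    exact (Nat.mul_pos (Nat.pos_of_ne_zero (S.m_ne b).out)
      (proj_pos S hM hB (Finset.mem_filter.mp hb).2)).ne' h1
  · rw [sum_sq_eq S hM hB, Finset.mul_sum]
    exact Finset.sum_congr rfl fun b hb => hv b (Finset.mem_filter.mp hb).2

end InBlock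

end CfsgLib.Blocks.Decomp
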