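import Cfsg.Agent.Lib.Blocks.Corner
import Mathlib.LinearAlgebra.Matrix.Rank
import Mathlib.LinearAlgebra.Trace

/-!
# Primitive idempotents of an algebra with a surjection onto matrix algebras with nilpotent kernel

Every primitive idempotent has rank one in exactly one component, two of them in the same
component are equivalent, and so an additive invariant of idempotents is determined by the ranks
of the components.
-/

set_option autoImplicit false
set_option linter.unusedSectionVars false
set_option linter.style.haveILetI false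

namespace CfsgLib.Blocks.Decomp

open CfsgLib CfsgLib.GrpRing

variable {K : Type*} [Field K]

section MatrixRank

variable {n : Type*} [Fintype n] [DecidableEq n]

theorem rank_add_of_orth {X Y : Matrix n n K} (hX : X * X = X) (hY : Y * Y = Y) (hXY : X * Y = 0)
    (hYX : Y * X = 0) : (X + Y).rank = X.rank + Y.rank := by
  simp only [Matrix.rank]
  set f := X.mulVecLin
  set g := Y.mulVecLin
  have hfg : (X + Y).mulVecLin = f + g := Matrix.mulVecLin_add X Y
  have hff : ∀ v, f (f v) = f v := fun v => by
    simp only [f, Matrix.mulVecLin_apply, Matrix.mulVec_mulVec, hX]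
  have hgg : ∀ v, g (g v) = g v := fun v => by
    simp only [g, Matrix.mulVecLin_apply, Matrix.mulVec_mulVec, hY]
  have hfg0 : ∀ v, f (g v) = 0 := fun v => by
    simp only [f, g, Matrix.mulVecLin_apply, Matrix.mulVec_mulVec, hXY, Matrix.zero_mulVec]
  have hgf0 : ∀ v, g (f v) = 0 := fun v => by
    simp only [f, g, Matrix.mulVecLin_apply, Matrix.mulVec_mulVec, hYX, Matrix.zero_mulVec]
  have hsup : LinearMap.range (f + g) = LinearMap.range f ⊔ LinearMap.range g := by
    refine le_antisymm ?_ (sup_le ?_ ?_)
    · rintro _ ⟨v, rfl⟩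
      exact Submodule.add_mem_sup ⟨v, rfl⟩ ⟨v, rfl⟩
    · rintro _ ⟨v, rfl⟩
      exact ⟨f v, by simp [hff, hgf0]⟩
    · rintro _ ⟨v, rfl⟩
      exact ⟨g v, by simp [hgg, hfg0]⟩
  have hinf : LinearMap.range f ⊓ LinearMap.range g = ⊥ := by
    refine (Submodule.eq_bot_iff _).mpr ?_
    rintro x ⟨⟨v, rfl⟩, w, hw⟩
    rw [← hff, ← hw, hfg0]
  have := Submodule.finrank_sup_add_finrank_inf_eq (LinearMap.range f) (LinearMap.range g)
  rw [hinf, finrank_bot, add_zero, ← hsup, ← hfg] at this
  exact this

/-- The trace of an idempotent matrix is its rank. -/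
theorem trace_eq_rank {X : Matrix n n K} (hX : X * X = X) : X.trace = (X.rank : K) := by
  have h : LinearMap.IsProj (LinearMap.range X.mulVecLin) X.mulVecLin := by
    refine ⟨fun v => ⟨v, rfl⟩, ?_⟩
    rintro _ ⟨v, rfl⟩
    simp only [Matrix.mulVecLin_apply, Matrix.mulVec_mulVec, hX]
  have := LinearMap.IsProj.trace h
  rw [LinearMap.trace_eq_matrix_trace K (Pi.basisFun K n)] at this
  rw [← Matrix.rank] at this
  rw [← this]
  congr 1
  exact (LinearMap.toMatrix'_toLin' X).symm

theorem rank_eq_zero {X : Matrix n n K} (h : X.rank = 0) : X = 0 := by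
  rw [Matrix.rank, Submodule.finrank_eq_zero, LinearMap.range_eq_bot] at h
  ext i j
  simpa using congrFun (LinearMap.congr_fun h (Pi.single j 1)) i

end MatrixRank

variable {A : Type*} [Ring A] [Algebra K A] [FiniteDimensional K A]
  {ι : Type*} {m : ι → ℕ} (π : A →ₐ[K] Π b, Matrix (Fin (m b)) (Fin (m b)) K)

/-- The rank of the component `b`. -/
noncomputable def rk (b : ι) (i : A) : ℕ := (π i b).rank

theorem rk_zero (b : ι) : rk π b 0 = 0 := by simp [rk]

theorem rk_add {b : ι} {i i' : A} (hi : IsIdempotentElem i) (hi' : IsIdempotentElem i')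
    (h : i * i' = 0) (h' : i' * i = 0) : rk π b (i + i') = rk π b i + rk π b i' := by
  rw [rk, map_add, Pi.add_apply]
  refine rank_add_of_orth ?_ ?_ ?_ ?_
  · rw [← Pi.mul_apply, ← map_mul, hi.eq]
  · rw [← Pi.mul_apply, ← map_mul, hi'.eq]
  · rw [← Pi.mul_apply, ← map_mul, h, map_zero, Pi.zero_apply]
  · rw [← Pi.mul_apply, ← map_mul, h', map_zero, Pi.zero_apply]

theorem rk_equiv {b : ι} {i j : A} (hi : IsIdempotentElem i) (hj : IsIdempotentElem j)
    (h : Corner.Equiv' i j) : rk π b i = rk π b j := by
  obtain ⟨x, y, hxy, hyx⟩ := h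
  have key : ∀ {i j x y : A}, IsIdempotentElem i → x * y = i → y * x = j →
      rk π b i ≤ rk π b j := fun {i j x y} hi hxy hyx => by
    have he : i = x * j * y := by
      rw [← hi.eq, ← hxy, ← hyx]
      simp only [mul_assoc]
    simp only [rk, he, map_mul, Pi.mul_apply]
    exact (Matrix.rank_mul_le_left _ _).trans (Matrix.rank_mul_le_right _ _)
  exact le_antisymm (key hi hxy hyx) (key hj hyx hxy)

variable (hπs : Function.Surjective π) (hnil : ∀ a, π a = 0 → IsNilpotent a)

include hnil in
theorem exists_component {x : A} (hx : Corner.IsPrim x) : ∃ b, π x b ≠ 0 := by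
  by_contra hc
  push Not at hc
  exact hx.ne_zero ((hnil x (funext hc)).eq_zero_of_isIdempotentElem hx.idem)

include hπs in
/-- Inside the image of a primitive idempotent there are no other idempotents. -/
theorem eq_of_le_image {x : A} (hx : Corner.IsPrim x)
    {E : Π b, Matrix (Fin (m b)) (Fin (m b)) K} (hE : E * E = E) (h1 : π x * E = E)
    (h2 : E * π x = E) : E = 0 ∨ E = π x := by
  obtain ⟨a, ha⟩ := hπs E
  set s := x * a * x with hs
  have hπs' : π s = E := by rw [hs, map_mul, map_mul, ha, h1, h2]
  rcases hx.dichotomy (K := K) (s := s) (by simp only [hs, ← mul_assoc, hx.idem.eq])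
    (by simp only [hs, mul_assoc, hx.idem.eq]) with ⟨k, hk⟩ | ⟨t, hxt, -, hts, -⟩
  · left
    have hp : ∀ k : ℕ, E ^ (k + 1) = E := fun k => by
      induction k with
      | zero => exact pow_one E
      | succ k ih => rw [pow_succ, ih, hE]
    rw [← hp k, ← hπs', ← map_pow, pow_succ, hk, zero_mul, map_zero]
  · right
    have h := congrArg π hts
    rw [map_mul, hπs'] at h
    calc E = π x * E := h1.symm
      _ = π t * E * E := by rw [h]
      _ = π t * E := by rw [mul_assoc, hE]
      _ = π x := h

variable [DecidableEq ι]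

include hπs in
/-- A primitive idempotent has rank one in one component and vanishes in the others. -/
theorem prim_component {x : A} (hx : Corner.IsPrim x) {b : ι} (hb : π x b ≠ 0) :
    rk π b x = 1 ∧ ∀ c, c ≠ b → π x c = 0 := by
  set X := π x b with hX
  obtain ⟨i, j, hij⟩ : ∃ i j, X i j ≠ 0 := by
    by_contra hc
    push Not at hc
    exact hb (Matrix.ext hc)
  have hXX : X * X = X := by rw [hX, ← Pi.mul_apply, ← map_mul, hx.idem.eq]
  set F := (X i j)⁻¹ • (X * Matrix.single j i (1 : K) * X) with hF
  have hSS : Matrix.single j i (1 : K) * X * Matrix.single j i 1 =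
      X i j • Matrix.single j i 1 := by
    rw [Matrix.single_mul_mul_single, Matrix.smul_single]
    simp
  have hFF : F * F = F := by
    simp only [hF, smul_mul_assoc, mul_smul_comm]
    rw [show X * Matrix.single j i (1 : K) * X * (X * Matrix.single j i 1 * X) =
      X * (Matrix.single j i (1 : K) * (X * X) * Matrix.single j i 1) * X by simp only [mul_assoc],
      hXX, hSS, mul_smul_comm, smul_mul_assoc, smul_smul, smul_smul, mul_assoc,
      inv_mul_cancel₀ hij, mul_one]
  have hXF : X * F = F := by simp only [hF, mul_smul_comm, ← mul_assoc, hXX]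
  have hFX : F * X = F := by simp only [hF, smul_mul_assoc, mul_assoc, hXX]
  rcases eq_of_le_image π hπs hx (E := Pi.single b F)
    (by rw [← Pi.single_mul, hFF])
    (funext fun c => by
      rcases eq_or_ne c b with rfl | hc
      · rw [Pi.mul_apply, Pi.single_eq_same, ← hX, hXF]
      · rw [Pi.mul_apply, Pi.single_eq_of_ne hc, mul_zero])
    (funext fun c => by
      rcases eq_or_ne c b with rfl | hc
      · rw [Pi.mul_apply, Pi.single_eq_same, ← hX, hFX]
      · rw [Pi.mul_apply, Pi.single_eq_of_ne hc, zero_mul]) with h | h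
  · exfalso
    have h0 : F = 0 := by simpa using congrFun h b
    have h1 := congrArg Matrix.trace h0
    rw [hF, Matrix.trace_smul, Matrix.trace_mul_comm, ← mul_assoc, hXX, Matrix.trace_mul_comm,
      Matrix.trace_single_mul, smul_eq_mul, Matrix.trace_zero] at h1
    simp [hij] at h1
  · refine ⟨le_antisymm ?_ (Nat.one_le_iff_ne_zero.mpr fun h0 => hb (rank_eq_zero h0)), fun c hc => ?_⟩
    · rw [rk, ← h, Pi.single_eq_same, hF, ← smul_mul_assoc]
      refine (Matrix.rank_mul_le_left _ _).trans ?_
      rw [← smul_mul_assoc]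
      refine (Matrix.rank_mul_le_right _ _).trans ?_
      rw [Matrix.single_eq_single_vecMulVec_single]
      exact Matrix.rank_vecMulVec_le _ _
    · rw [← h, Pi.single_eq_of_ne hc]

include hπs in
/-- Primitive idempotents in the same component are equivalent. -/
theorem equiv_of_component {x y : A} (hx : Corner.IsPrim x) (hy : Corner.IsPrim y) {b : ι}
    (hxb : π x b ≠ 0) (hyb : π y b ≠ 0) : Corner.Equiv' x y := by
  obtain ⟨i, j, hij⟩ : ∃ i j, π x b i j ≠ 0 := by
    by_contra hz
    push Not at hz
    exact hxb (Matrix.ext hz)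
  obtain ⟨i', j', hij'⟩ : ∃ i' j', π y b i' j' ≠ 0 := by
    by_contra hz
    push Not at hz
    exact hyb (Matrix.ext hz)
  obtain ⟨a, ha⟩ := hπs (Pi.single b (Matrix.single j i' 1))
  obtain ⟨c, hc⟩ := hπs (Pi.single b (Matrix.single j' i 1))
  set s := x * a * y * c * x with hs
  have hn : ¬ IsNilpotent s := fun hn => by
    have hn' : IsNilpotent (π s b) := (hn.map π).map (Pi.evalRingHom _ b)
    have hUU : π x b * π x b = π x b := by rw [← Pi.mul_apply, ← map_mul, hx.idem.eq]
    have heq : π s b = π x b * Matrix.single j i (π y b i' j') * π x b := by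
      simp only [hs, map_mul, Pi.mul_apply, ha, hc, Pi.single_eq_same]
      rw [show π x b * Matrix.single j i' 1 * π y b * Matrix.single j' i 1 * π x b =
        π x b * (Matrix.single j i' 1 * π y b * Matrix.single j' i 1) * π x b by
          simp only [mul_assoc],
        Matrix.single_mul_mul_single, one_mul, mul_one]
    rw [heq] at hn'
    have htr := (Matrix.isNilpotent_trace_of_isNilpotent hn').eq_zero
    rw [Matrix.trace_mul_comm, ← mul_assoc, hUU, Matrix.trace_mul_comm, Matrix.trace_single_mul,
      smul_eq_mul, mul_eq_zero] at htr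
    exact htr.elim hij' hij
  obtain ⟨t, hxt, -, -, hst⟩ := (hx.dichotomy (K := K) (s := s)
    (by simp only [hs, ← mul_assoc, hx.idem.eq])
    (by simp only [hs, mul_assoc, hx.idem.eq])).resolve_left hn
  have h1 : x * a * y * (y * c * t) = x := by
    calc x * a * y * (y * c * t) = x * a * (y * y) * c * (x * t) := by
          rw [hxt]
          simp only [mul_assoc]
      _ = s * t := by rw [hy.idem.eq, hs]; simp only [mul_assoc]
      _ = x := hst
  refine ⟨x * a * y, y * c * t, h1, ?_⟩
  set q := y * c * t * (x * a * y) with hqdef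
  have hq : q * q = q := by
    calc q * q = y * c * t * ((x * a * y * (y * c * t)) * x) * a * y := by
          simp only [hqdef, mul_assoc]
      _ = y * c * t * x * a * y := by rw [h1, hx.idem.eq]
      _ = q := by simp only [hqdef, mul_assoc]
  rcases hy.eq_of_le q hq (by simp only [hqdef, ← mul_assoc, hy.idem.eq])
    (by simp only [hqdef, mul_assoc, hy.idem.eq]) with h | h
  · exfalso
    refine hx.ne_zero ?_
    calc x = (x * a * y * (y * c * t)) * (x * a * y * (y * c * t)) := by rw [h1, hx.idem.eq]
      _ = x * a * y * q * (y * c * t) := by simp only [hqdef, mul_assoc]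
      _ = 0 := by rw [h, mul_zero, zero_mul]
  · exact h

include hπs in
/-- Representatives. -/
theorem exists_reps [IsAlgClosed K] (hm : ∀ b, NeZero (m b)) :
    ∃ j : ι → A, ∀ b, Corner.IsPrim (j b) ∧ π (j b) b ≠ 0 := by
  have : ∀ b, ∃ j, Corner.IsPrim j ∧ π j b ≠ 0 := fun b => by
    obtain ⟨s, hs, -, hsum⟩ := Corner.exists_prim_decomp (K := K) (IsIdempotentElem.one (M := A))
    by_contra hc
    push Not at hc
    haveI := hm b
    have h := congrFun (congrArg π hsum) b
    rw [map_sum, Finset.sum_apply, map_one, Pi.one_apply,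
      Finset.sum_eq_zero fun x hx => hc x (hs x hx)] at h
    exact zero_ne_one h
  choose j hj using this
  exact ⟨j, hj⟩

include hπs hnil in
/-- An additive invariant of idempotents is the combination of its values on the representatives
with the ranks. -/
theorem additive_eq [IsAlgClosed K] [Fintype ι] {R : Type*} [AddCommMonoid R] (F : A → R) (h0 : F 0 = 0)
    (hadd : ∀ i i', IsIdempotentElem i → IsIdempotentElem i' → i * i' = 0 → i' * i = 0 →
      F (i + i') = F i + F i')
    (hequiv : ∀ i i', IsIdempotentElem i → IsIdempotentElem i' → Corner.Equiv' i i' → F i = F i')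
    {j : ι → A} (hj : ∀ b, Corner.IsPrim (j b) ∧ π (j b) b ≠ 0) {i : A} (hi : IsIdempotentElem i) :
    F i = ∑ b, rk π b i • F (j b) := by
  classical
  obtain ⟨s, hs, ho, rfl⟩ := Corner.exists_prim_decomp (K := K) hi
  clear hi
  have hprim : ∀ x : A, Corner.IsPrim x → F x = ∑ b, rk π b x • F (j b) := fun x hx => by
    obtain ⟨c, hc⟩ := exists_component π hnil hx
    obtain ⟨h1, hz⟩ := prim_component π hπs hx hc
    rw [Finset.sum_eq_single c (fun b _ hb => by rw [rk, hz b hb, Matrix.rank_zero, zero_smul])
      (by simp), h1, one_smul]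
    exact hequiv _ _ hx.idem (hj c).1.idem (equiv_of_component π hπs hx (hj c).1 hc (hj c).2)
  suffices h : ∀ t ⊆ s, F (∑ x ∈ t, x) = ∑ b, rk π b (∑ x ∈ t, x) • F (j b) ∧
      IsIdempotentElem (∑ x ∈ t, x) from (h s subset_rfl).1
  intro t
  induction t using Finset.induction with
  | empty => exact fun _ => ⟨by simp [h0, rk_zero], by simpa using IsIdempotentElem.zero⟩
  | insert a t hat ih =>
    intro hts
    obtain ⟨h1, h2⟩ := ih ((Finset.subset_insert a t).trans hts)
    have has : a ∈ s := hts (Finset.mem_insert_self a t)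
    have hne : ∀ x ∈ t, x ∈ s ∧ a ≠ x := fun x hx =>
      ⟨hts (Finset.mem_insert_of_mem hx), fun h => hat (h ▸ hx)⟩
    have hao : a * ∑ x ∈ t, x = 0 := by
      rw [Finset.mul_sum]
      exact Finset.sum_eq_zero fun x hx => ho (Finset.mem_coe.mpr has)
        (Finset.mem_coe.mpr (hne x hx).1) (hne x hx).2
    have hoa : (∑ x ∈ t, x) * a = 0 := by
      rw [Finset.sum_mul]
      exact Finset.sum_eq_zero fun x hx => ho (Finset.mem_coe.mpr (hne x hx).1)
        (Finset.mem_coe.mpr has) (hne x hx).2.symm
    have ha := (hs a has).idem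
    rw [Finset.sum_insert hat]
    refine ⟨?_, ?_⟩
    · rw [hadd _ _ ha h2 hao hoa, h1, hprim a (hs a has), ← Finset.sum_add_distrib]
      exact Finset.sum_congr rfl fun b _ => by rw [rk_add π ha h2 hao hoa, add_smul]
    · rw [IsIdempotentElem, add_mul, mul_add, mul_add, ha.eq, h2.eq, hao, hoa, add_zero, zero_add]

end CfsgLib.Blocks.Decomp
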