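import Cfsg.Agent.Lib.Blocks.Decomp.Basic
import Cfsg.Agent.Lib.Char.Table

/-!
# Properties of the decomposition numbers seen in the residue field
-/

set_option autoImplicit false
set_option linter.unusedSectionVars false
set_option linter.style.haveILetI false

namespace CfsgLib.Blocks.Decomp

open Cfsg CfsgLib.GrpRing
open MonoidAlgebra (of)
open scoped ComplexConjugate CfsgLib.Char

variable {p : ℕ} {M : Ideal AlgInt} [M.IsPrime] {G : Type*} [Group G] [Fintype G] (S : Simples M G)

theorem chiSum_sum_fun {ι : Type*} (s : Finset ι) (c : ι → ℂ) (f : ι → G → ℂ) (a : OG M G) :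
    chiSum (fun g => ∑ i ∈ s, c i * f i g) a = ∑ i ∈ s, c i * chiSum (f i) a := by
  simp only [chiSum, Finset.mul_sum]
  rw [Finset.sum_comm]
  exact Finset.sum_congr rfl fun i _ => Finset.sum_congr rfl fun g _ => by ring

/-- A local class function with the given residues sees exactly one component. -/
theorem res_chiSum_lift {θ : G → ℂ} (hl : ∀ g, MemLocalRing M (θ g)) {b : Fin S.r}
    (hθ : ∀ g, res M (θ g) = S.tr b g) (c : Fin S.r) :
    res M (chiSum θ (S.e c)) = if b = c then 1 else 0 := by
  rw [chiSum, res_sum _ _ fun g _ => memLocalRing_mul ((S.e c).coeff g).2 (hl g), ← trace_j S b c,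
    trace_eq_sum, ← S.red_e c]
  refine Finset.sum_congr rfl fun g _ => ?_
  rw [res_mul ((S.e c).coeff g).2 (hl g), hθ g, coeff_red]
  congr 1
  exact res_coe ((S.e c).coeff g)

theorem exists_lift_tr (b : Fin S.r) : ∃ θ : G → ℂ, IsClassFunction G θ ∧
    (∀ g, MemLocalRing M (θ g)) ∧ ∀ g, res M (θ g) = S.tr b g := by
  choose sect hsect using fun a : ResField M => Ideal.Quotient.mk_surjective (I := locIdeal M) a
  exact ⟨fun g => (sect (S.tr b g) : ℂ), fun g h => by simp only [tr_conj], fun g => (sect _).2,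
    fun g => (res_coe _).trans (hsect _)⟩

/-- Every component occurs in some irreducible character. -/
theorem exists_dec_ne_zero (b : Fin S.r) : ∃ χ : IrrCharacter G, S.dec (χ : G → ℂ) b ≠ 0 := by
  classical
  by_contra hc
  push Not at hc
  obtain ⟨θ, hcl, hl, hθ⟩ := exists_lift_tr S b
  have h := res_chiSum_lift S hl hθ b
  have he : chiSum θ (S.e b) = 0 := by
    have hexp : θ = fun g => ∑ χ : IrrCharacter G, classInner θ (χ : G → ℂ) * (χ : G → ℂ) g := by
      funext g
      conv_lhs => rw [Char.classFunction_expansion hcl]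
      simp [Finset.sum_apply]
    rw [hexp, chiSum_sum_fun]
    exact Finset.sum_eq_zero fun χ _ => by
      rw [show chiSum (χ : G → ℂ) (S.e b) = S.dec (χ : G → ℂ) b from rfl, hc, mul_zero]
  rw [he, res_zero, if_pos rfl] at h
  exact zero_ne_one h

/-- The Brauer characters are independent over the integers. -/
theorem brauer_indep (hM : IsPModular p M) (c : Fin S.r → ℤ)
    (h : ∀ y : G, IsPRegular p y → ∑ b, (c b : ℂ) * S.brauer b y = 0) : c = 0 := by
  classical
  have : Fact p.Prime := ⟨hM.1⟩
  have := charP_resField hM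
  induction hn : ∑ b, (c b).natAbs using Nat.strong_induction_on generalizing c with
  | _ n ih =>
    have hres : ∀ (z : ℤ), res M (z : ℂ) = (z : ResField M) := fun z => by
      rw [res_mk (memLocalRing_intCast _)]
      exact map_intCast (Ideal.Quotient.mk (locIdeal M)) z
    have hreg : ∀ y : G, IsPRegular p y → ∑ b, (c b : ResField M) * S.tr b y = 0 := fun y hy => by
      have h1 := congrArg (res M) (h y hy)
      rw [res_sum _ _ fun b _ => memLocalRing_mul (memLocalRing_intCast _) (memLocalRing_brauer S b y),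
        res_zero] at h1
      rw [← h1]
      exact Finset.sum_congr rfl fun b _ => by
        rw [res_mul (memLocalRing_intCast _) (memLocalRing_brauer S b y), hres, res_brauer S hM hy]
    have hall : ∀ g : G, ∑ b, (c b : ResField M) * S.tr b g = 0 := fun g => by
      obtain ⟨x, ⟨y, hxy, hcom, ⟨k, hk⟩, hy⟩, -⟩ := exists_isPPart hM.1 g
      rw [← hreg y hy]
      refine Finset.sum_congr rfl fun b _ => ?_
      congr 1
      subst hxy
      show (S.π (of (ResField M) G (x * y)) b).trace = (S.π (of (ResField M) G y) b).trace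
      rw [map_mul, map_mul, Pi.mul_apply]
      refine PrimeDefect.trace_mul_unipotent (p := p) ?_ (k := k) ?_
      · exact ((hcom.map (of (ResField M) G)).map S.π).map (Pi.evalRingHom _ b)
      · rw [← Pi.pow_apply, ← map_pow, ← map_pow, ← hk, pow_orderOf_eq_one, map_one, map_one,
          Pi.one_apply]
    have hdvd : ∀ b, (p : ℤ) ∣ c b := fun b => by
      have h1 : ∑ b', (c b' : ResField M) * (S.π (S.j b) b').trace = 0 := by
        simp only [trace_eq_sum, Finset.mul_sum]
        rw [Finset.sum_comm]
        refine Finset.sum_eq_zero fun g _ => ?_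
        rw [Finset.sum_congr rfl (g := fun b' => (S.j b).coeff g *
          ((c b' : ResField M) * S.tr b' g)) fun b' _ => by ring, ← Finset.mul_sum, hall, mul_zero]
      simp only [trace_j, mul_ite, mul_one, mul_zero, Finset.sum_ite_eq', Finset.mem_univ, if_true]
        at h1
      exact (CharP.intCast_eq_zero_iff (ResField M) p _).mp h1
    choose c' hc' using hdvd
    by_cases h0 : c = 0
    · exact h0
    exfalso
    have hp2 := hM.1.two_le
    obtain ⟨b₀, hb₀⟩ : ∃ b, c b ≠ 0 := by
      by_contra hcon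
      push Not at hcon
      exact h0 (funext hcon)
    have hlt : ∑ b, (c' b).natAbs < n := by
      rw [← hn]
      refine Finset.sum_lt_sum (fun b _ => ?_) ⟨b₀, Finset.mem_univ _, ?_⟩
      · rw [hc' b, Int.natAbs_mul, Int.natAbs_natCast]
        exact Nat.le_mul_of_pos_left _ hM.1.pos
      · have hne : (c' b₀).natAbs ≠ 0 := fun h' => hb₀ (by
          rw [hc' b₀, Int.natAbs_eq_zero.mp h', mul_zero])
        rw [hc' b₀, Int.natAbs_mul, Int.natAbs_natCast]
        exact lt_mul_of_one_lt_left (Nat.pos_of_ne_zero hne) hM.1.one_lt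
    have := ih _ hlt c' (fun y hy => by
      have h1 := h y hy
      rw [Finset.sum_congr rfl (g := fun b => (p : ℂ) * ((c' b : ℂ) * S.brauer b y)) fun b _ => by
        rw [hc' b]; push_cast; ring, ← Finset.mul_sum] at h1
      exact (mul_eq_zero.mp h1).resolve_left (Nat.cast_ne_zero.mpr hM.1.ne_zero)) rfl
    exact h0 (funext fun b => by rw [hc' b, this]; simp)

/-- The decomposition numbers are natural. -/
theorem exists_nat_dec {χ : G → ℂ} (hχ : IsCharacter G χ) (b : Fin S.r) :
    ∃ n : ℕ, S.dec χ b = n := by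
  obtain ⟨n, hn⟩ := Char.exists_nat_degree (isCharacter_chiSum hχ (⊥ : Subgroup G).subtype
    (S.idem b) fun h => by
      rw [show (⊥ : Subgroup G).subtype h = 1 from Subgroup.mem_bot.mp h.2, dlt_one]
      exact Commute.one_left _)
  refine ⟨n, ?_⟩
  rw [← hn, Simples.dec]
  simp [dlt_one]

/-- The degree of the projective character of a component. -/
theorem sum_degree_mul_dec (b : Fin S.r) :
    ∑ χ : IrrCharacter G, (χ : G → ℂ) 1 * S.dec (χ : G → ℂ) b =
      (Nat.card G : ℂ) * (((S.e b).coeff 1 : locRing M) : ℂ) := by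
  classical
  simp only [Simples.dec, chiSum, Finset.mul_sum]
  rw [Finset.sum_comm, Finset.sum_eq_single 1]
  · rw [Finset.sum_congr rfl (g := fun χ : IrrCharacter G => (((S.e b).coeff 1 : locRing M) : ℂ) *
      ((χ : G → ℂ) 1 * (χ : G → ℂ) 1)) fun χ _ => by ring, ← Finset.mul_sum,
      Char.sum_degree_mul_irr, if_pos rfl, mul_comm]
  · intro g _ hg
    rw [Finset.sum_congr rfl (g := fun χ : IrrCharacter G => (((S.e b).coeff g : locRing M) : ℂ) *
      ((χ : G → ℂ) 1 * (χ : G → ℂ) g)) fun χ _ => by ring, ← Finset.mul_sum,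
      Char.sum_degree_mul_irr, if_neg hg, mul_zero]
  · simp

/-- The natural decomposition numbers. -/
noncomputable def Simples.decN (χ : IrrCharacter G) (b : Fin S.r) : ℕ :=
  (exists_nat_dec S (Char.isCharacter_of_isIrr χ.2) b).choose

theorem dec_eq (χ : IrrCharacter G) (b : Fin S.r) :
    S.dec (χ : G → ℂ) b = (S.decN χ b : ℂ) :=
  (exists_nat_dec S (Char.isCharacter_of_isIrr χ.2) b).choose_spec

theorem exists_decN_pos (b : Fin S.r) : ∃ χ : IrrCharacter G, 0 < S.decN χ b := by
  obtain ⟨χ, hχ⟩ := exists_dec_ne_zero S b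
  exact ⟨χ, Nat.pos_of_ne_zero fun h => hχ (by rw [dec_eq, h, Nat.cast_zero])⟩

theorem degree_eq (hM : IsPModular p M) (χ : IrrCharacter G) :
    charDegree (χ : G → ℂ) = ∑ b, S.m b * S.decN χ b := by
  refine Nat.cast_injective (R := ℂ) ?_
  rw [← (irr_degree_eq χ).1, value_eq S hM (irr_classFunction χ) (y := 1)
    (by rw [IsPRegular, orderOf_one]; exact hM.1.not_dvd_one)]
  push_cast
  exact Finset.sum_congr rfl fun b _ => by rw [brauer_one S hM, dec_eq]

/-- The degree of a projective character is divisible by the full `p`-part of the order. -/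
theorem pow_dvd_projective (hM : IsPModular p M) (b : Fin S.r) :
    p ^ (Nat.card G).factorization p ∣ ∑ χ : IrrCharacter G, charDegree (χ : G → ℂ) * S.decN χ b := by
  set a := (Nat.card G).factorization p
  refine pow_dvd_of_memLocalRing hM ?_
  obtain ⟨m', hm'⟩ := Nat.ordProj_dvd (Nat.card G) p
  have h := sum_degree_mul_dec S b
  rw [Nat.cast_sum, Finset.sum_congr rfl (g := fun χ : IrrCharacter G =>
    (χ : G → ℂ) 1 * S.dec (χ : G → ℂ) b) fun χ _ => by
      rw [Nat.cast_mul, ← dec_eq, (irr_degree_eq χ).1], h, hm', Nat.cast_mul, Nat.cast_pow,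
    mul_assoc, mul_div_cancel_left₀ _ (pow_ne_zero _ (Nat.cast_ne_zero.mpr hM.1.ne_zero))]
  exact memLocalRing_mul (memLocalRing_natCast _) ((S.e b).coeff 1).2

end CfsgLib.Blocks.Decomp
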