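import Cfsg.Agent.Lib.Blocks.Decomp.Residual
import Cfsg.Agent.Lib.Char.PiPart
import Cfsg.Agent.Lib.Char.BrauerInd

/-!
# Surjectivity of the decomposition map

For a `p'`-group the decomposition matrix is the identity, so the Brauer characters restrict to
characters of the `p'`-subgroups, and Brauer's characterisation makes their extensions
generalized characters.
-/

set_option autoImplicit false
set_option linter.unusedSectionVars false
set_option linter.style.haveILetI false

namespace CfsgLib.Blocks.Decomp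

open Cfsg CfsgLib.GrpRing
open MonoidAlgebra (of)
open scoped ComplexConjugate CfsgLib.Char

variable {p : ℕ} {M : Ideal AlgInt} [M.IsPrime]

section PPrime

variable {Q : Type*} [Group Q] [Fintype Q] (T : Simples M Q)

theorem injective_of_pPrime (hM : IsPModular p M) (hQ : ¬ p ∣ Nat.card Q) :
    Function.Injective T.π := by
  classical
  have := charP_resField hM
  rw [injective_iff_map_eq_zero]
  intro a ha
  refine MonoidAlgebra.ext (Finsupp.ext fun g => ?_)
  have hn : IsNilpotent (a * dlt (ResField M) g⁻¹) := T.nil _ (by rw [map_mul, ha, zero_mul])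
  set b := a * dlt (ResField M) g⁻¹ with hb
  set L := LinearMap.mulLeft (ResField M) b with hL
  have hLn : IsNilpotent L := by
    obtain ⟨k, hk⟩ := hn
    exact ⟨k, by rw [hL, LinearMap.pow_mulLeft, hk, LinearMap.mulLeft_zero_eq_zero]⟩
  have htr := (LinearMap.isNilpotent_trace_of_isNilpotent hLn).eq_zero
  rw [LinearMap.trace_eq_matrix_trace (ResField M) (MonoidAlgebra.basis Q (ResField M)),
    Matrix.trace] at htr
  have hd : ∀ x : Q, (LinearMap.toMatrix (MonoidAlgebra.basis Q (ResField M))
      (MonoidAlgebra.basis Q (ResField M)) L).diag x = a.coeff g := fun x => by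
    rw [Matrix.diag, LinearMap.toMatrix_apply, MonoidAlgebra.basis_apply, hL,
      LinearMap.mulLeft_apply]
    show (b * dlt (ResField M) x).coeff x = _
    rw [hb, mul_assoc, dlt_mul, coeff_mul_dlt]
    congr 1
    group
  rw [Finset.sum_congr rfl fun x _ => hd x, Finset.sum_const, Finset.card_univ, nsmul_eq_mul] at htr
  exact (mul_eq_zero.mp htr).resolve_left fun h =>
    hQ (Nat.card_eq_fintype_card (α := Q) ▸ (CharP.cast_eq_zero_iff (ResField M) p _).mp h)

theorem sum_sq_m (hM : IsPModular p M) (hQ : ¬ p ∣ Nat.card Q) :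
    ∑ b, T.m b ^ 2 = Nat.card Q := by
  have h := (LinearEquiv.ofBijective T.π.toLinearMap
    ⟨injective_of_pPrime T hM hQ, T.surj⟩).finrank_eq
  rw [Module.finrank_eq_card_basis (MonoidAlgebra.basis Q (ResField M)), Module.finrank_pi_fintype,
    ← Nat.card_eq_fintype_card] at h
  rw [h]
  exact Finset.sum_congr rfl fun b _ => by
    rw [Module.finrank_matrix]; simp [sq]

/-- The decomposition matrix of a `p'`-group is a permutation matrix. -/
theorem exists_unit_row (hM : IsPModular p M) (hQ : ¬ p ∣ Nat.card Q) :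
    ∃ ψ : Fin T.r → IrrCharacter Q, ∀ b c, T.decN (ψ b) c = if b = c then 1 else 0 := by
  classical
  choose ψ hψ using exists_decN_pos T
  have hm : ∀ b, 0 < T.m b := fun b => Nat.pos_of_ne_zero (T.m_ne b).out
  have hsq : ∑ χ : IrrCharacter Q, (∑ b, T.m b * T.decN χ b) ^ 2 = ∑ b, T.m b ^ 2 := by
    rw [sum_sq_m T hM hQ]
    refine Nat.cast_injective (R := ℂ) ?_
    rw [Nat.cast_sum, ← Char.sum_sq_degree (G := Q)]
    exact Finset.sum_congr rfl fun χ _ => by rw [← degree_eq T hM, (irr_degree_eq χ).1, Nat.cast_pow]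
  have h1 : ∀ b, T.m b ^ 2 ≤ ∑ χ : IrrCharacter Q, (T.m b * T.decN χ b) ^ 2 := fun b => by
    refine le_trans ?_ (Finset.single_le_sum (fun χ _ => Nat.zero_le _) (Finset.mem_univ (ψ b)))
    rw [mul_pow]
    exact Nat.le_mul_of_pos_right _ (pow_pos (hψ b) 2)
  have h2 : ∀ χ : IrrCharacter Q,
      ∑ b, (T.m b * T.decN χ b) ^ 2 ≤ (∑ b, T.m b * T.decN χ b) ^ 2 := fun χ => by
    rw [sq (∑ b, T.m b * T.decN χ b), Finset.sum_mul]
    exact Finset.sum_le_sum fun b _ => by
      rw [sq]
      exact Nat.mul_le_mul_left _ (Finset.single_le_sum (f := fun b => T.m b * T.decN χ b)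
        (fun _ _ => Nat.zero_le _) (Finset.mem_univ b))
  have hle : ∑ b, T.m b ^ 2 ≤ ∑ b, ∑ χ : IrrCharacter Q, (T.m b * T.decN χ b) ^ 2 :=
    Finset.sum_le_sum fun b _ => h1 b
  have hle' : ∑ b, ∑ χ : IrrCharacter Q, (T.m b * T.decN χ b) ^ 2 ≤
      ∑ χ : IrrCharacter Q, (∑ b, T.m b * T.decN χ b) ^ 2 := by
    rw [Finset.sum_comm]
    exact Finset.sum_le_sum fun χ _ => h2 χ
  refine ⟨ψ, fun b c => ?_⟩
  split_ifs with hbc
  · subst hbc
    refine le_antisymm ?_ (hψ b)
    by_contra hgt
    push Not at hgt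
    have : ∑ b, T.m b ^ 2 < ∑ b, ∑ χ : IrrCharacter Q, (T.m b * T.decN χ b) ^ 2 := by
      refine Finset.sum_lt_sum (fun b _ => h1 b) ⟨b, Finset.mem_univ _, ?_⟩
      refine lt_of_lt_of_le ?_ (Finset.single_le_sum (fun χ _ => Nat.zero_le _)
        (Finset.mem_univ (ψ b)))
      exact Nat.pow_lt_pow_left (lt_mul_of_one_lt_right (hm b) hgt) two_ne_zero
    omega
  · by_contra hne
    have : ∑ b, ∑ χ : IrrCharacter Q, (T.m b * T.decN χ b) ^ 2 <
        ∑ χ : IrrCharacter Q, (∑ b, T.m b * T.decN χ b) ^ 2 := by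
      rw [Finset.sum_comm]
      refine Finset.sum_lt_sum (fun χ _ => h2 χ) ⟨ψ b, Finset.mem_univ _, ?_⟩
      rw [sq (∑ c, T.m c * T.decN (ψ b) c), Finset.sum_mul]
      refine Finset.sum_lt_sum (fun d _ => ?_) ⟨b, Finset.mem_univ _, ?_⟩
      · rw [sq]
        exact Nat.mul_le_mul_left _ (Finset.single_le_sum (f := fun b' => T.m b' * T.decN (ψ b) b')
          (fun _ _ => Nat.zero_le _) (Finset.mem_univ d))
      · rw [sq]
        refine Nat.mul_lt_mul_of_pos_left ?_ (Nat.mul_pos (hm b) (hψ b))
        exact Finset.single_lt_sum (f := fun b' => T.m b' * T.decN (ψ b) b') (Ne.symm hbc)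
          (Finset.mem_univ _) (Finset.mem_univ _) (Nat.mul_pos (hm c) (Nat.pos_of_ne_zero hne))
          (fun _ _ _ => Nat.zero_le _)
    omega

include T in
/-- An additive invariant of the idempotents of a `p'`-group gives a generalized character. -/
theorem exists_generalized_of_additive (hM : IsPModular p M) (hQ : ¬ p ∣ Nat.card Q)
    (F : KG M Q → ℕ) (h0 : F 0 = 0)
    (hadd : ∀ i i', IsIdempotentElem i → IsIdempotentElem i' → i * i' = 0 → i' * i = 0 →
      F (i + i') = F i + F i')
    (hequiv : ∀ i i', IsIdempotentElem i → IsIdempotentElem i' → Corner.Equiv' i i' → F i = F i') :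
    ∃ η : Q → ℂ, IsGeneralizedCharacter Q η ∧ ∀ y : Q, η y = ∑ k ∈ Finset.range (orderOf y),
      ((zRoot M (orderOf y) : locRing M) : ℂ) ^ k * (F (red (eig M y k)) : ℂ) := by
  classical
  obtain ⟨ψ, hψ⟩ := exists_unit_row T hM hQ
  set η : Q → ℂ := ∑ b, (((F (T.j b) : ℕ) : ℤ) : ℂ) • (ψ b : Q → ℂ) with hη
  have hgen : IsGeneralizedCharacter Q η := Char.isGeneralized_sum _ _ fun b _ =>
    Char.isGeneralized_intCast_smul (Char.isGeneralized_of_isIrr (ψ b).2) _
  refine ⟨η, hgen, fun y => ?_⟩
  have hy : IsPRegular p y := fun h => hQ (h.trans (orderOf_dvd_natCard y))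
  have hdec : ∀ c, T.dec η c = (F (T.j c) : ℂ) := fun c => by
    rw [Simples.dec, show η = fun g => ∑ b, (((F (T.j b) : ℕ) : ℤ) : ℂ) * (ψ b : Q → ℂ) g by
      funext g; simp [hη, Finset.sum_apply], chiSum_sum_fun]
    rw [Finset.sum_eq_single c]
    · show _ * T.dec (ψ c : Q → ℂ) c = _
      rw [dec_eq, hψ, if_pos rfl]; simp
    · intro b _ hb
      show _ * T.dec (ψ b : Q → ℂ) c = _
      rw [dec_eq, hψ, if_neg hb]; simp
    · simp
  rw [value_eq T hM (Char.isClassFunction_of_isGeneralized hgen) hy]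
  simp only [hdec, Simples.brauer, Finset.sum_mul]
  rw [Finset.sum_comm]
  refine Finset.sum_congr rfl fun k hk => ?_
  rw [additive_eq T.π T.surj T.nil F h0 hadd hequiv (j := T.j) (fun b => ⟨T.prim b, T.j_ne b⟩)
    ((isIdempotentElem_eig hM hy (Finset.mem_range.mp hk)).map red), Nat.cast_sum, Finset.mul_sum]
  exact Finset.sum_congr rfl fun b _ => by rw [smul_eq_mul]; push_cast; ring

end PPrime

variable {G : Type*} [Group G] [Fintype G] (S : Simples M G)

theorem red_eig (x : G) (k : ℕ) : red (eig M x k) =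
    fid (res M ((cInv M (orderOf x) : locRing M) : ℂ))
      (res M ((zRoot M (orderOf x) : locRing M) : ℂ)) (dlt (ResField M) x) (orderOf x) k := by
  rw [eig, map_fid (red (M := M) (G := G)) (Ideal.Quotient.mk (locIdeal M))
    (fun r a => by rw [red_smul, res_coe]), red_dlt, res_coe, res_coe]

theorem mapK_red_eig {Q : Type*} [Group Q] [Fintype Q] (f : Q →* G) (hf : Function.Injective f)
    (y : Q) (k : ℕ) : CyclicDefect.mapK M f (red (eig M y k)) = red (eig M (f y) k) := by
  rw [red_eig, red_eig, orderOf_injective f hf y]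
  have := map_fid (CyclicDefect.mapK M f).toRingHom (RingHom.id (ResField M))
    (fun r a => map_smul (CyclicDefect.mapK M f) r a)
  rw [show (CyclicDefect.mapK M f) (fid _ _ (dlt (ResField M) y) (orderOf y) k) =
    (CyclicDefect.mapK M f).toRingHom (fid _ _ (dlt (ResField M) y) (orderOf y) k) from rfl, this]
  congr 1
  exact CyclicDefect.mapK_of f y

/-- On a `p'`-subgroup a Brauer character is a generalized character. -/
theorem isGeneralized_brauer (hM : IsPModular p M) {Q : Type*} [Group Q] [Fintype Q] (f : Q →* G)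
    (hf : Function.Injective f) (hQ : ¬ p ∣ Nat.card Q) (b : Fin S.r) :
    IsGeneralizedCharacter Q (fun y => S.brauer b (f y)) := by
  obtain ⟨T⟩ := nonempty_simples M Q
  obtain ⟨η, hη, hval⟩ := exists_generalized_of_additive T hM hQ
    (fun i => rk S.π b (CyclicDefect.mapK M f i)) (by rw [map_zero, rk_zero])
    (fun i i' hi hi' h h' => by
      rw [map_add, rk_add S.π (hi.map _) (hi'.map _) (by rw [← map_mul, h, map_zero])
        (by rw [← map_mul, h', map_zero])])
    (fun i i' hi hi' ⟨x, y, hxy, hyx⟩ => rk_equiv S.π (hi.map _) (hi'.map _)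
      ⟨CyclicDefect.mapK M f x, CyclicDefect.mapK M f y, by rw [← map_mul, hxy],
        by rw [← map_mul, hyx]⟩)
  convert hη using 1
  funext y
  rw [hval, Simples.brauer, orderOf_injective f hf y]
  exact Finset.sum_congr rfl fun k _ => by rw [mapK_red_eig f hf]

/-- **Surjectivity of the decomposition map.** -/
theorem exists_coeffs (hM : IsPModular p M) (b : Fin S.r) :
    ∃ z : IrrCharacter G → ℤ, (∀ c, ∑ χ : IrrCharacter G, z χ * (S.decN χ c : ℤ) =
      if b = c then 1 else 0) := by
  classical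
  have : Fact p.Prime := ⟨hM.1⟩
  obtain ⟨m, hm⟩ := Nat.ordProj_dvd (Nat.card G) p
  set n := p ^ (Nat.card G).factorization p with hn
  have hpm : ¬ p ∣ m := by
    intro h
    have h1 := Nat.pow_succ_factorization_not_dvd (n := Nat.card G) Nat.card_pos.ne' hM.1
    refine h1 ?_
    rw [pow_succ]
    exact (mul_dvd_mul_left _ h).trans (dvd_of_eq hm.symm)
  have hmn : m.Coprime n := (Nat.Coprime.pow_left _ (hM.1.coprime_iff_not_dvd.mpr hpm)).symm
  have hN : Nat.card G ∣ m * n := by rw [mul_comm, ← hm]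
  obtain ⟨A, -, hA, hnA, -, -⟩ := Char.PiPart.exists_exponent hmn
  have hreg : ∀ g : G, IsPRegular p (g ^ A) := fun g h =>
    hpm (h.trans (orderOf_dvd_of_pow_eq_one (Char.PiPart.part_pow hN hnA g)))
  set Ψ : G → ℂ := fun g => S.brauer b (g ^ A) with hΨ
  have hcl : IsClassFunction G Ψ := fun g h => by
    simp only [hΨ, conj_pow]
    exact brauer_conj S b _ h hM (hreg g)
  have hgen : IsGeneralizedCharacter G Ψ := Char.brauer_characterisation hcl fun E q hq hE => by
    have := Char.isNilpotent_of_isElementary hq hE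
    have hNE : Nat.card E ∣ m * n := (Subgroup.card_subgroup_dvd_card E).trans hN
    let f : E →* E :=
      { toFun := fun x => x ^ A
        map_one' := one_pow A
        map_mul' := fun u v => Char.PiPart.part_hom hNE hA hnA hmn u v }
    have hQ : ¬ p ∣ Nat.card f.range := fun h =>
      hpm (h.trans (Char.PiPart.card_range_dvd hNE hA hnA hmn f fun _ => rfl))
    have h1 := isGeneralized_brauer S hM (E.subtype.comp f.range.subtype)
      (E.subtype_injective.comp f.range.subtype_injective) hQ b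
    convert Char.isGeneralized_comp f.rangeRestrict h1 using 1
    funext x
    simp [hΨ, f]
  obtain ⟨z, hz⟩ := Char.isGeneralized_iff.mp hgen
  refine ⟨z, fun c => ?_⟩
  have hdec : ∀ c, S.dec Ψ c = ∑ χ : IrrCharacter G, (z χ : ℂ) * (S.decN χ c : ℂ) := fun c => by
    rw [Simples.dec, show Ψ = fun g => ∑ χ : IrrCharacter G, (z χ : ℂ) * (χ : G → ℂ) g by
      funext g; rw [hz]; simp [Finset.sum_apply], chiSum_sum_fun]
    exact Finset.sum_congr rfl fun χ _ => by
      rw [show chiSum (χ : G → ℂ) (S.e c) = S.dec (χ : G → ℂ) c from rfl, dec_eq]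
  have key := brauer_indep S hM (fun c => ∑ χ : IrrCharacter G, z χ * (S.decN χ c : ℤ) -
    if b = c then 1 else 0) fun y hy => by
    have h1 := value_eq S hM hcl hy
    have hself : Ψ y = S.brauer b y := by
      show S.brauer b (y ^ A) = _
      rw [Char.PiPart.part_eq_self hA]
      refine orderOf_dvd_iff_pow_eq_one.mp ?_
      refine (Nat.Coprime.dvd_of_dvd_mul_right ?_ ((orderOf_dvd_natCard y).trans hN))
      exact (Nat.Coprime.pow_left _ (hM.1.coprime_iff_not_dvd.mpr hy)).symm
    rw [hself] at h1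
    simp only [Int.cast_sub, Int.cast_sum, Int.cast_mul, Int.cast_natCast, ← hdec,
      Int.cast_ite, Int.cast_one, Int.cast_zero, sub_mul, ite_mul, one_mul, zero_mul,
      Finset.sum_sub_distrib, Finset.sum_ite_eq, Finset.mem_univ, if_true]
    rw [sub_eq_zero, h1]
    exact Finset.sum_congr rfl fun c _ => mul_comm _ _
  exact sub_eq_zero.mp (congrFun key c)

end CfsgLib.Blocks.Decomp
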