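import Cfsg.Agent.Lib.Blocks.Decomp.Block
import Cfsg.Agent.Lib.Blocks.EqualDegree.CenterDim

/-!
# The trace of an automorphism on the regular parts of a union of blocks

In the basis of Brauer characters an automorphism has natural entries, so the trace is natural.
-/

set_option autoImplicit false
set_option linter.unusedSectionVars false
set_option linter.style.haveILetI false

namespace CfsgLib.Blocks.Decomp

open Cfsg CfsgLib.GrpRing
open MonoidAlgebra (of)
open scoped ComplexConjugate CfsgLib.Char

variable {p : ℕ} {M : Ideal AlgInt} [M.IsPrime] {G : Type*} [Group G] [Fintype G] (S : Simples M G)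

/-- The Brauer characters are independent over the complex numbers. -/
theorem brauer_indepC (hM : IsPModular p M) (c : Fin S.r → ℂ)
    (h : ∀ y : G, IsPRegular p y → ∑ b, c b * S.brauer b y = 0) : c = 0 := by
  classical
  have : Fact p.Prime := ⟨hM.1⟩
  have := charP_resField hM
  let w : Fin S.r → {y : G // IsPRegular p y} → ℂ := fun b y => S.brauer b y
  have hw : ∀ b y, MemLocalRing M (w b y) := fun b y => memLocalRing_brauer S b y
  have hli : LinearIndependent ℂ w := by
    refine EqualDegree.indep_lift_loc w hw ?_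
    rw [Fintype.linearIndependent_iff]
    intro d hd b
    have hreg : ∀ y : G, IsPRegular p y → ∑ b, d b * S.tr b y = 0 := fun y hy => by
      have h1 := congrFun hd ⟨y, hy⟩
      simp only [Finset.sum_apply, Pi.smul_apply, smul_eq_mul, Pi.zero_apply, w] at h1
      rw [← h1]
      exact Finset.sum_congr rfl fun b _ => by rw [res_brauer S hM hy]
    have hall : ∀ g : G, ∑ b, d b * S.tr b g = 0 := fun g => by
      obtain ⟨x, ⟨y, hxy, hcom, ⟨k, hk⟩, hy⟩, -⟩ := exists_isPPart hM.1 g
      rw [← hreg y hy]
      refine Finset.sum_congr rfl fun b _ => ?_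
      congr 1
      subst hxy
      show (S.π (of (ResField M) G (x * y)) b).trace = (S.π (of (ResField M) G y) b).trace
      rw [map_mul, map_mul, Pi.mul_apply]
      refine PrimeDefect.trace_mul_unipotent (p := p) ?_ (k := k) ?_
      · exact ((hcom.map (of (ResField M) G)).map S.π).map (Pi.evalRingHom _ b)
      · rw [← Pi.pow_apply, ← map_pow, ← map_pow, ← hk, pow_orderOf_eq_one, map_one, map_one,
          Pi.one_apply]
    have h1 : ∑ b', d b' * (S.π (S.j b) b').trace = 0 := by
      simp only [trace_eq_sum, Finset.mul_sum]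
      rw [Finset.sum_comm]
      refine Finset.sum_eq_zero fun g _ => ?_
      rw [Finset.sum_congr rfl (g := fun b' => (S.j b).coeff g * (d b' * S.tr b' g))
        fun b' _ => by ring, ← Finset.mul_sum, hall, mul_zero]
    simpa only [trace_j, mul_ite, mul_one, mul_zero, Finset.sum_ite_eq', Finset.mem_univ, if_true]
      using h1
  refine funext (Fintype.linearIndependent_iff.mp hli c (funext fun y => ?_))
  simpa [w, Finset.sum_apply] using h y.1 y.2

/-- The decomposition numbers only depend on the regular part. -/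
theorem dec_congr (hM : IsPModular p M) {θ η : G → ℂ} (hθ : IsClassFunction G θ)
    (hη : IsClassFunction G η) (h : ∀ y, IsPRegular p y → θ y = η y) : S.dec θ = S.dec η := by
  have h0 := brauer_indepC S hM (fun b => S.dec θ b - S.dec η b) fun y hy => by
    simp only [sub_mul, Finset.sum_sub_distrib]
    rw [sub_eq_zero]
    have h1 := value_eq S hM hθ hy
    have h2 := value_eq S hM hη hy
    simp only [mul_comm (S.brauer _ y)] at h1 h2
    rw [← h1, ← h2, h y hy]
  exact funext fun b => sub_eq_zero.mp (congrFun h0 b)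

/-- An automorphism has natural entries in the basis of Brauer characters. -/
theorem exists_twist (hM : IsPModular p M) (φ : G ≃* G) :
    ∃ n : Fin S.r → Fin S.r → ℕ, ∀ b s, IsPRegular p s →
      S.brauer b (φ s) = ∑ c, (n b c : ℂ) * S.brauer c s := by
  classical
  refine ⟨fun b c => rk S.π b (CyclicDefect.mapK M φ.toMonoidHom (S.j c)), fun b s hs => ?_⟩
  simp only [Simples.brauer, Finset.mul_sum]
  rw [Finset.sum_comm, show orderOf (φ s) = orderOf s from orderOf_injective φ.toMonoidHom φ.injective s]
  refine Finset.sum_congr rfl fun k hk => ?_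
  rw [show φ s = φ.toMonoidHom s from rfl, ← mapK_red_eig φ.toMonoidHom φ.injective]
  rw [additive_eq S.π S.surj S.nil (fun i => rk S.π b (CyclicDefect.mapK M φ.toMonoidHom i))
    (by rw [map_zero, rk_zero])
    (fun i i' hi hi' h h' => by
      rw [map_add]
      exact rk_add S.π (hi.map _) (hi'.map _) (by rw [← map_mul, h, map_zero])
        (by rw [← map_mul, h', map_zero]))
    (fun i i' hi hi' ⟨x, y, hxy, hyx⟩ => rk_equiv S.π (hi.map _) (hi'.map _)
      ⟨CyclicDefect.mapK M φ.toMonoidHom x, CyclicDefect.mapK M φ.toMonoidHom y,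
        by rw [← map_mul, hxy], by rw [← map_mul, hyx]⟩)
    (j := S.j) (fun c => ⟨S.prim c, S.j_ne c⟩)
    ((isIdempotentElem_eig hM hs (Finset.mem_range.mp hk)).map red), Nat.cast_sum, Finset.mul_sum]
  exact Finset.sum_congr rfl fun c _ => by rw [smul_eq_mul]; push_cast; ring

theorem decN_eq_zero_of_union {U : Set (IrrCharacter G)} (hU : IsBlockUnion M U) {b : Fin S.r}
    {ψ : IrrCharacter G} (hψ : ψ ∈ U) (hpos : 0 < S.decN ψ b) {χ : IrrCharacter G} (hχ : χ ∉ U) :
    S.decN χ b = 0 :=
  decN_eq_zero S (isPBlock_blockOf ψ) ⟨ψ, mem_blockOf_self ψ, hpos⟩ fun h =>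
    hχ (hU ψ hψ χ h)

open Classical in
/-- **The trace of an automorphism on the regular parts of a union of blocks is natural.** -/
theorem exists_nat_trace (hM : IsPModular p M) {U : Set (IrrCharacter G)} (hU : IsBlockUnion M U)
    (φ : G ≃* G) : ∃ t : ℕ, ∑ ψ : IrrCharacter G with ψ ∈ U,
      ∑ s : G, (if IsPRegular p s then (ψ : G → ℂ) (φ s) * conj ((ψ : G → ℂ) s) else 0) =
        (Nat.card G : ℂ) * t := by
  obtain ⟨S⟩ := nonempty_simples M G
  obtain ⟨n, hn⟩ := exists_twist S hM φ
  choose z hz using exists_coeffs S hM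
  let inU : Fin S.r → Prop := fun b => ∃ ψ ∈ U, 0 < S.decN ψ b
  refine ⟨∑ b with inU b, n b b, ?_⟩
  have hG : (Nat.card G : ℂ) ≠ 0 := Nat.cast_ne_zero.mpr Nat.card_pos.ne'
  have hbr : ∀ c y, IsPRegular p y →
      S.brauer c y = ∑ η : IrrCharacter G, (z c η : ℂ) * (η : G → ℂ) y := fun c y hy => by
    have h1 : ∀ η : IrrCharacter G, (η : G → ℂ) y = ∑ d, S.brauer d y * (S.decN η d : ℂ) := fun η => by
      rw [value_eq S hM (irr_classFunction η) hy]
      exact Finset.sum_congr rfl fun d _ => by rw [dec_eq]
    simp only [h1, Finset.mul_sum]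
    rw [Finset.sum_comm, Finset.sum_eq_single c]
    · have hc : ((∑ η : IrrCharacter G, z c η * (S.decN η c : ℤ) : ℤ) : ℂ) = 1 := by
        rw [hz c c, if_pos rfl]; simp
      conv_lhs => rw [← one_mul (S.brauer c y), ← hc]
      push_cast
      rw [Finset.sum_mul]
      exact Finset.sum_congr rfl fun η _ => by ring
    · intro d _ hd
      have hc : ((∑ η : IrrCharacter G, z c η * (S.decN η d : ℤ) : ℤ) : ℂ) = 0 := by
        rw [hz c d, if_neg (Ne.symm hd)]; simp
      push_cast at hc
      calc ∑ η : IrrCharacter G, (z c η : ℂ) * (S.brauer d y * (S.decN η d : ℂ))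
          = S.brauer d y * ∑ η : IrrCharacter G, (z c η : ℂ) * (S.decN η d : ℂ) := by
            rw [Finset.mul_sum]
            exact Finset.sum_congr rfl fun η _ => by ring
        _ = 0 := by rw [hc, mul_zero]
    · simp
  -- the pairing of a component with a Brauer character
  have hpair : ∀ b c, ∑ ψ : IrrCharacter G with ψ ∈ U, (S.decN ψ b : ℂ) *
      ∑ s : G, (if IsPRegular p s then S.brauer c s * conj ((ψ : G → ℂ) s) else 0) =
      if inU b ∧ c = b then (Nat.card G : ℂ) else 0 := by
    intro b c
    by_cases hb : inU b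
    · obtain ⟨ψ₀, hψ₀, hpos⟩ := hb
      rw [Finset.sum_filter, Finset.sum_congr rfl (g := fun ψ : IrrCharacter G => (S.decN ψ b : ℂ) *
        ∑ s : G, (if IsPRegular p s then S.brauer c s * conj ((ψ : G → ℂ) s) else 0)) fun ψ _ => by
          split_ifs with h
          · rfl
          · rw [decN_eq_zero_of_union S hU hψ₀ hpos h, Nat.cast_zero, zero_mul]]
      have hstep : ∀ ψ : IrrCharacter G,
          ∑ s : G, (if IsPRegular p s then S.brauer c s * conj ((ψ : G → ℂ) s) else 0) =
            (Nat.card G : ℂ) *
              classInner (regPart p fun s => ∑ η : IrrCharacter G, (z c η : ℂ) * (η : G → ℂ) s)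
                (ψ : G → ℂ) := fun ψ => by
        rw [classInner, ← mul_assoc, mul_inv_cancel₀ hG, one_mul]
        refine Finset.sum_congr rfl fun s _ => ?_
        by_cases hs : IsPRegular p s
        · rw [if_pos hs, regPart_of_regular hs, hbr c s hs]
        · rw [if_neg hs, regPart_of_singular hs, zero_mul]
      simp only [hstep]
      set θ : G → ℂ := fun s => ∑ η : IrrCharacter G, (z c η : ℂ) * (η : G → ℂ) s with hθ
      have hθc : IsClassFunction G θ := fun g h => by
        simp only [hθ]
        exact Finset.sum_congr rfl fun η _ => by rw [irr_classFunction η g h]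
      have hrc := isClassFunction_regPart (p := p) hθc
      have hd1 : S.dec (regPart p θ) b =
          ∑ ψ : IrrCharacter G, classInner (regPart p θ) (ψ : G → ℂ) * (S.decN ψ b : ℂ) := by
        have hexp : regPart p θ = fun g =>
            ∑ ψ : IrrCharacter G, classInner (regPart p θ) (ψ : G → ℂ) * (ψ : G → ℂ) g := by
          funext g
          conv_lhs => rw [Char.classFunction_expansion hrc]
          simp [Finset.sum_apply]
        conv_lhs => rw [Simples.dec, hexp, chiSum_sum_fun]
        exact Finset.sum_congr rfl fun ψ _ => by rw [← dec_eq]; rfl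
      have hd2 : S.dec (regPart p θ) b = S.dec θ b :=
        congrFun (dec_congr S hM hrc hθc fun y hy => regPart_of_regular hy) b
      have hd3 : S.dec θ b = if c = b then 1 else 0 := by
        rw [Simples.dec, hθ, chiSum_sum_fun,
          Finset.sum_congr rfl fun η _ => show (z c η : ℂ) * chiSum (η : G → ℂ) (S.e b) =
            ((z c η * (S.decN η b : ℤ) : ℤ) : ℂ) by
              push_cast; rw [← dec_eq]; rfl, ← Int.cast_sum, hz c b]
        split_ifs <;> simp
      calc ∑ ψ : IrrCharacter G, (S.decN ψ b : ℂ) *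
            ((Nat.card G : ℂ) * classInner (regPart p θ) (ψ : G → ℂ))
          = (Nat.card G : ℂ) * ∑ ψ : IrrCharacter G,
              classInner (regPart p θ) (ψ : G → ℂ) * (S.decN ψ b : ℂ) := by
            rw [Finset.mul_sum]
            exact Finset.sum_congr rfl fun ψ _ => by ring
        _ = _ := by
            rw [← hd1, hd2, hd3]
            by_cases hcb : c = b
            · rw [if_pos hcb, if_pos ⟨⟨ψ₀, hψ₀, hpos⟩, hcb⟩, mul_one]
            · rw [if_neg hcb, if_neg fun h => hcb h.2, mul_zero]
    · rw [if_neg fun h => hb h.1]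
      refine Finset.sum_eq_zero fun ψ hψ => ?_
      rw [Nat.eq_zero_of_not_pos fun h => hb ⟨ψ, (Finset.mem_filter.mp hψ).2, h⟩, Nat.cast_zero,
        zero_mul]
  have hval : ∀ ψ : IrrCharacter G, ∀ s : G,
      (if IsPRegular p s then (ψ : G → ℂ) (φ s) * conj ((ψ : G → ℂ) s) else 0) =
      ∑ b, ∑ c, (n b c : ℂ) * ((S.decN ψ b : ℂ) *
        (if IsPRegular p s then S.brauer c s * conj ((ψ : G → ℂ) s) else 0)) := fun ψ s => by
    by_cases hs : IsPRegular p s
    · have hs' : IsPRegular p (φ s) := by
        rw [IsPRegular, show φ s = φ.toMonoidHom s from rfl,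
          orderOf_injective φ.toMonoidHom φ.injective]
        exact hs
      simp only [if_pos hs]
      rw [value_eq S hM (irr_classFunction ψ) hs', Finset.sum_mul]
      refine Finset.sum_congr rfl fun b _ => ?_
      rw [hn b s hs, Finset.sum_mul, Finset.sum_mul, dec_eq]
      exact Finset.sum_congr rfl fun c _ => by ring
    · simp [hs]
  simp only [hval]
  calc ∑ ψ : IrrCharacter G with ψ ∈ U, ∑ s : G, ∑ b, ∑ c, (n b c : ℂ) * ((S.decN ψ b : ℂ) *
        (if IsPRegular p s then S.brauer c s * conj ((ψ : G → ℂ) s) else 0))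
      = ∑ b, ∑ c, (n b c : ℂ) * ∑ ψ : IrrCharacter G with ψ ∈ U, (S.decN ψ b : ℂ) *
          ∑ s : G, (if IsPRegular p s then S.brauer c s * conj ((ψ : G → ℂ) s) else 0) := by
        simp only [Finset.mul_sum]
        rw [Finset.sum_congr rfl fun ψ _ => Finset.sum_comm, Finset.sum_comm]
        refine Finset.sum_congr rfl fun b _ => ?_
        rw [Finset.sum_congr rfl fun ψ _ => Finset.sum_comm, Finset.sum_comm]
    _ = _ := by
        simp only [hpair]
        rw [Nat.cast_sum, Finset.mul_sum, Finset.sum_filter]
        refine Finset.sum_congr rfl fun b _ => ?_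
        by_cases hb : inU b
        · simp [hb, mul_comm]
        · simp [hb]

end CfsgLib.Blocks.Decomp
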